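import Cfsg.Agent.Lib.OutSolv.Quad

/-!
A perfect group of isometries centralizes each abelian group of isometries of odd order that it
normalizes.
-/

set_option autoImplicit false
set_option linter.unusedSectionVars false

namespace CfsgLib.OutSolv

open scoped commutatorElement

variable {A V : Type*} [CommGroup A] [CommGroup V]

/-- The restriction of a group of automorphisms to an invariant subgroup. -/
def restrTo (U : Subgroup (MulAut A)) (W : Subgroup A) (h : ∀ u ∈ U, ∀ w ∈ W, u w ∈ W) : U →* MulAut W where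
  toFun u :=
    { toFun := fun w => ⟨(u : MulAut A) w, h _ u.2 _ w.2⟩
      invFun := fun w => ⟨(u : MulAut A)⁻¹ w, h _ (inv_mem u.2) _ w.2⟩
      left_inv := fun w => Subtype.ext (MulAut.inv_apply_self _ _ _)
      right_inv := fun w => Subtype.ext (MulAut.apply_inv_self _ _ _)
      map_mul' := fun _ _ => Subtype.ext (map_mul _ _ _) }
  map_one' := rfl
  map_mul' _ _ := rfl

@[simp]
theorem coe_restrTo (U : Subgroup (MulAut A)) (W : Subgroup A) (h : ∀ u ∈ U, ∀ w ∈ W, u w ∈ W) (u : U) (w : W) :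
    (restrTo U W h u w : A) = (u : MulAut A) w := rfl

/-- A minimal nontrivial invariant subgroup below a given one. -/
theorem exists_minimal_invariant [Finite A] (S : Set (MulAut A)) {R : Subgroup A} (hR : R ≠ ⊥)
    (hinv : ∀ s ∈ S, ∀ w ∈ R, s w ∈ R) :
    ∃ W ≤ R, W ≠ ⊥ ∧ (∀ s ∈ S, ∀ w ∈ W, s w ∈ W) ∧
      ∀ W' ≤ W, (∀ s ∈ S, ∀ w ∈ W', s w ∈ W') → W' = ⊥ ∨ W' = W := by
  haveI : Finite (Subgroup A) := Finite.of_injective (fun K => (K : Set A)) SetLike.coe_injective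
  obtain ⟨W, ⟨hWR, hW, hWinv⟩, hmin⟩ :=
    (Set.toFinite {W : Subgroup A | W ≤ R ∧ W ≠ ⊥ ∧ ∀ s ∈ S, ∀ w ∈ W, s w ∈ W}).exists_minimal
      ⟨R, le_rfl, hR, hinv⟩
  exact ⟨W, hWR, hW, hWinv, fun W' hW' hinv' =>
    or_iff_not_imp_left.2 fun h => le_antisymm hW' (hmin ⟨hW'.trans hWR, h, hinv'⟩ hW')⟩

/-- Minimality inside the group is irreducibility of the restriction. -/
theorem irr_restrTo (U : Subgroup (MulAut A)) (W : Subgroup A) (h : ∀ u ∈ U, ∀ w ∈ W, u w ∈ W) (S : Set U)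
    (hmin : ∀ W' ≤ W, (∀ u ∈ S, ∀ w ∈ W', (u : MulAut A) w ∈ W') → W' = ⊥ ∨ W' = W) :
    Irr (restrTo U W h '' S) := by
  intro K hK
  rcases hmin (K.map W.subtype) (by rintro _ ⟨k, -, rfl⟩; exact k.2) (by
    rintro u hu _ ⟨k, hk, rfl⟩
    exact ⟨_, hK _ ⟨u, hu, rfl⟩ k hk, rfl⟩) with h' | h'
  · exact Or.inl ((Subgroup.map_eq_bot_iff_of_injective _ W.subtype_injective).1 h')
  · refine Or.inr (Subgroup.map_injective W.subtype_injective ?_)
    rw [h', ← MonoidHom.range_eq_map, Subgroup.range_subtype]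

namespace Aniso

variable {Q : A → V} (hQ : Aniso Q)
include hQ

theorem decomp_unique [Finite A] {g : MulAut A} (hodd : Odd (orderOf g)) {p q p' q' : A} (hp : g p = p)
    (hp' : g p' = p') (hq : q ∈ commRange g) (hq' : q' ∈ commRange g) (h : p * q = p' * q') :
    p = p' ∧ q = q' := by
  have e : p'⁻¹ * p = q' * q⁻¹ := by
    rw [inv_mul_eq_iff_eq_mul, ← mul_assoc, eq_mul_inv_iff_mul_eq, h]
  have h1 : p'⁻¹ * p = 1 := hQ.fixed_inf_commRange hodd (by rw [map_mul, map_inv, hp, hp'])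
    (e ▸ mul_mem hq' (inv_mem hq))
  obtain rfl : p = p' := (inv_mul_eq_one.1 h1).symm
  exact ⟨rfl, mul_left_cancel h⟩

theorem apply_commRange {g f : MulAut A} (hfg : f * g = g * f) {x : A} (hx : x ∈ commRange g) :
    f x ∈ commRange g := by
  obtain ⟨c, rfl⟩ := mem_commRange.1 hx
  refine mem_commRange.2 ⟨f c, ?_⟩
  rw [map_mul, ← MulAut.mul_apply, ← hfg, MulAut.mul_apply]

/-- An automorphism conjugate to a commuting one fixes all its fixed points. -/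
theorem fixed_le_fixed [Finite A] {n n' l : MulAut A} (hn' : n' ∈ isometries Q) (hl : l ∈ isometries Q)
    (hodd : Odd (orderOf n')) (hcomm : n * n' = n' * n) (hconj : n' * l = l * n) {x : A} (hx : n x = x) :
    n' x = x := by
  obtain ⟨p, q, hp, hq, rfl⟩ := hQ.exists_decomp hodd x
  have hp' : n' (n p) = n p := by rw [← MulAut.mul_apply, ← hcomm, MulAut.mul_apply, hp]
  obtain ⟨-, hqf⟩ := hQ.decomp_unique hodd hp' hp (hQ.apply_commRange hcomm hq) hq (by rw [← map_mul, hx])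
  have hlq : n' (l q) = l q := by rw [← MulAut.mul_apply, hconj, MulAut.mul_apply, hqf]
  have h1 : q * l q = 1 := hQ.zero _ (by
    rw [hQ.apply_mul, hl, hQ.two', one_mul, hQ.polar_comm, hQ.polar_fixed_commRange hn' hlq hq])
  rw [mul_eq_one_iff_inv_eq, hQ.inv_eq] at h1
  have hq1 : q = 1 := hQ.fixed_inf_commRange hodd ((congrArg n' h1).trans (hlq.trans h1.symm)) hq
  rw [hq1, mul_one, hp]

/-- An abelian group of isometries of odd order is centralized by perfect groups normalizing it. -/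
theorem commute_of_abelian [Finite A] {L E : Subgroup (MulAut A)} (hE : E ≤ isometries Q) (hEo : Odd (Nat.card E))
    (hEc : ∀ a ∈ E, ∀ b ∈ E, a * b = b * a) (hL : L ≤ isometries Q) (hP : IsPerf L)
    (hn : L ≤ Subgroup.normalizer (E : Set (MulAut A))) {l e : MulAut A} (hl : l ∈ L) (he : e ∈ E) :
    l * e = e * l := by
  classical
  haveI : Finite (MulAut A) := Finite.of_injective (fun f => (f : A → A)) DFunLike.coe_injective
  have hodd : ∀ a ∈ E, Odd (orderOf a) := fun a ha =>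
    hEo.of_dvd_nat (Subgroup.orderOf_dvd_natCard E ha)
  have hmem : ∀ a ∈ L, ∀ b ∈ E, a * b * a⁻¹ ∈ E := fun a ha b hb =>
    (Subgroup.mem_normalizer_iff.1 (hn ha) b).1 hb
  have hfix : ∀ a ∈ L, ∀ b ∈ E, ∀ x, b x = x → (a * b * a⁻¹) x = x := fun a ha b hb x hx =>
    hQ.fixed_le_fixed (hE (hmem a ha b hb)) (hL ha) (hodd _ (hmem a ha b hb)) (hEc _ hb _ (hmem a ha b hb))
      (by group) hx
  have hblock : ∀ W : Subgroup A, W ≠ ⊥ → ∀ hW : ∀ u ∈ E, ∀ w ∈ W, u w ∈ W,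
      (∀ W' ≤ W, (∀ u ∈ E, ∀ w ∈ W', u w ∈ W') → W' = ⊥ ∨ W' = W) →
      ∀ w ∈ W, (l * e * l⁻¹) w = e w := by
    intro W hW0 hW hmin
    haveI : Nontrivial W := (Subgroup.nontrivial_iff_ne_bot W).2 hW0
    let r := restrTo E W hW
    have hirr : Irr (r '' Set.univ) := irr_restrTo E W hW _ fun W' h1 h2 =>
      hmin W' h1 fun u hu => h2 ⟨u, hu⟩ trivial
    haveI hcyc : IsCyclic r.range := isCyclic_of_irr hirr _ (by
      rintro _ ⟨a, rfl⟩ _ ⟨b, -, rfl⟩
      rw [← map_mul, ← map_mul, show a * b = b * a from Subtype.ext (hEc _ a.2 _ b.2)])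
    have hker : ∀ a ∈ L, ∀ b₁ b₂ : MulAut A, b₁ ∈ E → b₂ ∈ E → (∀ w ∈ W, b₁ w = b₂ w) →
        ∀ w ∈ W, (a * b₁ * a⁻¹) w = (a * b₂ * a⁻¹) w := by
      intro a ha b₁ b₂ h1 h2 h12 w hw
      have h3 := hfix a ha (b₂⁻¹ * b₁) (mul_mem (inv_mem h2) h1) w (by
        rw [MulAut.mul_apply, h12 w hw, MulAut.inv_apply_self])
      conv_rhs => rw [← h3]
      rw [← MulAut.mul_apply]
      congr 1
      group
    obtain ⟨⟨_, g, rfl⟩, hg⟩ := hcyc.exists_generator
    have hexp : ∀ b : E, ∃ j : ℤ, r b = r g ^ j := fun b => by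
      obtain ⟨j, hj⟩ := Subgroup.mem_zpowers_iff.1 (hg ⟨r b, b, rfl⟩)
      exact ⟨j, (congrArg Subtype.val hj).symm⟩
    have hk : ∀ a (ha : a ∈ L), ∃ k : ℤ, ∀ b : E, r ⟨a * b * a⁻¹, hmem a ha _ b.2⟩ = r b ^ k := by
      intro a ha
      obtain ⟨k, hk⟩ := hexp ⟨a * g * a⁻¹, hmem a ha _ g.2⟩
      refine ⟨k, fun b => ?_⟩
      obtain ⟨j, hj⟩ := hexp b
      have h1 : r ⟨a * b * a⁻¹, hmem a ha _ b.2⟩ =
          r ⟨a * (g ^ j : E) * a⁻¹, hmem a ha _ (g ^ j).2⟩ := by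
        refine MulEquiv.ext fun w => Subtype.ext (hker a ha _ _ b.2 (g ^ j).2 (fun v hv => ?_) w w.2)
        rw [← coe_restrTo E W hW b ⟨v, hv⟩, show restrTo E W hW b = restrTo E W hW (g ^ j) by
          rw [map_zpow]; exact hj]
        rfl
      rw [h1, show (⟨a * (g ^ j : E) * a⁻¹, hmem a ha _ (g ^ j).2⟩ : E) = ⟨a * g * a⁻¹, hmem a ha _ g.2⟩ ^ j from
        Subtype.ext (by push_cast; rw [conj_zpow]), map_zpow, hk, hj, ← zpow_mul, ← zpow_mul, mul_comm]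
    let H : Subgroup (MulAut A) :=
      { carrier := {a | a ∈ L ∧ ∀ b ∈ E, ∀ w ∈ W, (a * b * a⁻¹) w = b w}
        one_mem' := ⟨L.one_mem, fun b _ w _ => by simp⟩
        mul_mem' := fun {a b} ha hb => ⟨mul_mem ha.1 hb.1, fun c hc w hw => by
          rw [show a * b * c * (a * b)⁻¹ = a * (b * c * b⁻¹) * a⁻¹ by group,
            ha.2 _ (hmem b hb.1 c hc) w hw, hb.2 c hc w hw]⟩
        inv_mem' := fun {a} ha => ⟨inv_mem ha.1, fun b hb w hw => by
          have := ha.2 _ (hmem a⁻¹ (inv_mem ha.1) b hb) w hw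
          rw [show a * (a⁻¹ * b * a⁻¹⁻¹) * a⁻¹ = b by group] at this
          exact this.symm⟩ }
    have hcom : ⁅L, L⁆ ≤ H := by
      rw [Subgroup.commutator_le]
      intro a ha b hb
      have hab : ⁅a, b⁆ ∈ L := by
        rw [commutatorElement_def]; exact mul_mem (mul_mem (mul_mem ha hb) (inv_mem ha)) (inv_mem hb)
      refine ⟨hab, fun c hc w hw => ?_⟩
      obtain ⟨i, hi⟩ := hk a ha
      obtain ⟨j, hj⟩ := hk b hb
      let c₀ : E := ⟨(b * a)⁻¹ * c * (b * a), by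
        simpa using hmem (b * a)⁻¹ (inv_mem (mul_mem hb ha)) c hc⟩
      have e1 : r ⟨a * (b * c₀ * b⁻¹) * a⁻¹, hmem a ha _ (hmem b hb _ c₀.2)⟩ = r c₀ ^ (j * i) := by
        rw [hi ⟨_, hmem b hb _ c₀.2⟩, hj, ← zpow_mul]
      have e2 : r ⟨b * (a * c₀ * a⁻¹) * b⁻¹, hmem b hb _ (hmem a ha _ c₀.2)⟩ = r c₀ ^ (j * i) := by
        rw [hj ⟨_, hmem a ha _ c₀.2⟩, hi, ← zpow_mul, mul_comm]
      have e3 := congrArg (fun f : MulAut W => (f ⟨w, hw⟩ : A)) (e1.trans e2.symm)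
      change (a * (b * c₀ * b⁻¹) * a⁻¹ : MulAut A) w = (b * (a * c₀ * a⁻¹) * b⁻¹ : MulAut A) w at e3
      have e4 : a * (b * c₀ * b⁻¹) * a⁻¹ = ⁅a, b⁆ * c * ⁅a, b⁆⁻¹ := by
        simp only [c₀, commutatorElement_def]; group
      have e5 : b * (a * c₀ * a⁻¹) * b⁻¹ = c := by simp only [c₀]; group
      rwa [e4, e5] at e3
    rw [hP] at hcom
    exact (hcom hl).2 e he
  set d := l * e * l⁻¹ * e⁻¹ with hd
  have hdE : d ∈ E := mul_mem (hmem l hl e he) (inv_mem he)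
  suffices hd1 : d = 1 by
    rw [hd, mul_inv_eq_one, mul_inv_eq_iff_eq_mul] at hd1
    exact hd1
  by_contra hne
  have hR : commRange d ≠ (⊥ : Subgroup A) := fun hb => hne (MulEquiv.ext fun c => by
    have h := Subgroup.mem_bot.1 (hb ▸ mem_commRange.2 ⟨c, rfl⟩ : d c * c ∈ (⊥ : Subgroup A))
    rwa [mul_eq_one_iff_eq_inv, hQ.inv_eq] at h)
  obtain ⟨W, hWR, hW0, hW, hmin⟩ := exists_minimal_invariant (E : Set (MulAut A)) hR
    fun s hs w hw => hQ.apply_commRange (hEc s hs d hdE) hw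
  refine hW0 ((Subgroup.eq_bot_iff_forall W).2 fun w hw => hQ.fixed_inf_commRange (hodd d hdE) ?_ (hWR hw))
  rw [hd, MulAut.mul_apply, hblock W hW0 hW hmin _ (hW _ (inv_mem he) w hw), MulAut.apply_inv_self]

end Aniso

end CfsgLib.OutSolv
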