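import Mathlib

/-!
Perfect subgroups of finite groups, a Frattini step for them, and the commutant of an irreducible
set of automorphisms of a finite commutative group.
-/

set_option autoImplicit false
set_option linter.unusedSectionVars false

namespace CfsgLib.OutSolv

open scoped commutatorElement

variable {G : Type*} [Group G]

/-- A subgroup equal to its derived subgroup. -/
def IsPerf (L : Subgroup G) : Prop := ⁅L, L⁆ = L

/-- The terms of the derived series of a subgroup. -/
def dser (K : Subgroup G) : ℕ → Subgroup G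
  | 0 => K
  | n + 1 => ⁅dser K n, dser K n⁆

theorem dser_succ_le (K : Subgroup G) (n : ℕ) : dser K (n + 1) ≤ dser K n :=
  Subgroup.commutator_le_self _

theorem dser_le (K : Subgroup G) : ∀ n, dser K n ≤ K
  | 0 => le_rfl
  | n + 1 => (dser_succ_le K n).trans (dser_le K n)

theorem IsPerf.dser {L : Subgroup G} (h : IsPerf L) : ∀ n, dser L n = L
  | 0 => rfl
  | n + 1 => by rw [OutSolv.dser, IsPerf.dser h n]; exact h

theorem dser_mono {K K' : Subgroup G} (h : K ≤ K') : ∀ n, dser K n ≤ dser K' n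
  | 0 => h
  | n + 1 => Subgroup.commutator_mono (dser_mono h n) (dser_mono h n)

theorem map_dser {H : Type*} [Group H] (f : G →* H) (K : Subgroup G) : ∀ n, (dser K n).map f = dser (K.map f) n
  | 0 => rfl
  | n + 1 => by rw [dser, Subgroup.map_commutator, map_dser f K n]; rfl

theorem exists_dser_perf [Finite G] (K : Subgroup G) : ∃ n, IsPerf (dser K n) := by
  suffices ∀ c n, Nat.card (dser K n) = c → ∃ m, IsPerf (dser K m) from this _ 0 rfl
  intro c
  induction c using Nat.strong_induction_on with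
  | _ c ih =>
    intro n hn
    by_cases h : IsPerf (dser K n)
    · exact ⟨n, h⟩
    refine ih _ ?_ (n + 1) rfl
    rw [← hn]
    refine lt_of_le_of_ne (Subgroup.card_le_of_le (dser_succ_le K n)) fun e => h ?_
    exact Subgroup.eq_of_le_of_card_ge (dser_succ_le K n) e.ge

theorem IsPerf.map {H : Type*} [Group H] {L : Subgroup G} (h : IsPerf L) (f : G →* H) : IsPerf (L.map f) := by
  rw [IsPerf, ← Subgroup.map_commutator, h]

theorem IsPerf.eq_bot_of_comm {L : Subgroup G} (h : IsPerf L) (hc : ∀ a ∈ L, ∀ b ∈ L, a * b = b * a) : L = ⊥ := by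
  rw [← h, eq_bot_iff, Subgroup.commutator_le]
  intro a ha b hb
  rw [Subgroup.mem_bot, commutatorElement_eq_one_iff_mul_comm]
  exact hc a ha b hb

theorem IsPerf.eq_bot_of_solvable {L : Subgroup G} (h : IsPerf L) (hs : Group.IsSolvable L) : L = ⊥ := by
  obtain ⟨n, hn⟩ := hs.solvable
  have e : ∀ m, (derivedSeries L m).map L.subtype = OutSolv.dser L m := fun m => by
    induction m with
    | zero => rw [derivedSeries_zero, ← MonoidHom.range_eq_map, Subgroup.range_subtype]; rfl
    | succ m ih => rw [derivedSeries_succ, Subgroup.map_commutator, ih]; rfl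
  have := e n
  rw [hn, Subgroup.map_bot, h.dser] at this
  exact this.symm

/-- A perfect subgroup dies in a solvable image. -/
theorem IsPerf.le_ker {H : Type*} [Group H] {L : Subgroup G} (h : IsPerf L) (f : G →* H) {K : Subgroup H}
    (hK : Group.IsSolvable K) (hLK : L.map f ≤ K) : L ≤ f.ker := by
  rw [← Subgroup.map_eq_bot_iff]
  refine (h.map f).eq_bot_of_solvable ?_
  exact solvable_of_solvable_injective (Subgroup.inclusion_injective hLK)

/-- An image is solvable as soon as all perfect subgroups die in it. -/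
theorem solvable_map_of_perfect [Finite G] {H : Type*} [Group H] (f : G →* H) (K : Subgroup G)
    (h : ∀ L : Subgroup G, L ≤ K → IsPerf L → L ≤ f.ker) : Group.IsSolvable (K.map f) := by
  obtain ⟨n, hn⟩ := exists_dser_perf K
  refine ⟨⟨n, Subgroup.map_injective (K.map f).subtype_injective ?_⟩⟩
  have e : ∀ m, (derivedSeries (K.map f) m).map (K.map f).subtype = dser (K.map f) m := fun m => by
    induction m with
    | zero => rw [derivedSeries_zero, ← MonoidHom.range_eq_map, Subgroup.range_subtype]; rfl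
    | succ m ih => rw [derivedSeries_succ, Subgroup.map_commutator, ih]; rfl
  rw [e, Subgroup.map_bot, ← map_dser, Subgroup.map_eq_bot_iff]
  exact h _ (dser_le K n) hn

theorem dser_sup_le {T M : Subgroup G} (hT : T ≤ Subgroup.normalizer (M : Set G)) :
    ∀ n, dser (T ⊔ M) n ≤ dser T n ⊔ M
  | 0 => le_rfl
  | n + 1 => by
    refine (Subgroup.commutator_mono (dser_sup_le hT n) (dser_sup_le hT n)).trans ?_
    set N := Subgroup.normalizer (M : Set G) with hN
    have hMN : M ≤ N := Subgroup.le_normalizer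
    have hA : dser T n ≤ N := (dser_le T n).trans hT
    haveI : (M.subgroupOf N).Normal := Subgroup.normal_in_normalizer
    let q := QuotientGroup.mk' (M.subgroupOf N)
    have hmap : ∀ B : Subgroup G, B ≤ N → ((B ⊔ M).subgroupOf N).map q = (B.subgroupOf N).map q := fun B hB => by
      rw [Subgroup.subgroupOf_sup hB hMN, Subgroup.map_sup,
        (Subgroup.map_eq_bot_iff _).2 (le_of_eq (QuotientGroup.ker_mk' _).symm), sup_bot_eq]
    rw [Subgroup.commutator_le]
    intro a ha b hb
    have haN : a ∈ N := sup_le hA hMN ha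
    have hbN : b ∈ N := sup_le hA hMN hb
    have h1 : q ⁅(⟨a, haN⟩ : N), ⟨b, hbN⟩⁆ ∈ ((⁅dser T n, dser T n⁆).subgroupOf N).map q := by
      have e : ((⁅dser T n, dser T n⁆).subgroupOf N) = ⁅(dser T n).subgroupOf N, (dser T n).subgroupOf N⁆ := by
        refine Subgroup.map_injective N.subtype_injective ?_
        rw [Subgroup.map_commutator, Subgroup.subgroupOf_map_subtype, Subgroup.subgroupOf_map_subtype,
          inf_eq_left.2 hA, inf_eq_left.2 ((Subgroup.commutator_le_self _).trans hA)]
      rw [e, Subgroup.map_commutator, map_commutatorElement]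
      refine Subgroup.commutator_mem_commutator ?_ ?_ <;> rw [← hmap _ hA]
      · exact Subgroup.mem_map_of_mem q (show (⟨a, haN⟩ : N) ∈ (dser T n ⊔ M).subgroupOf N from ha)
      · exact Subgroup.mem_map_of_mem q (show (⟨b, hbN⟩ : N) ∈ (dser T n ⊔ M).subgroupOf N from hb)
    obtain ⟨⟨c, hcN⟩, hc, hqc⟩ := h1
    obtain ⟨d, hd, hcd⟩ : ∃ d : G, d ∈ M ∧ c * d = ⁅a, b⁆ := by
      have h2 := QuotientGroup.eq.1 hqc
      exact ⟨c⁻¹ * ⁅a, b⁆, h2, mul_inv_cancel_left c _⟩
    rw [← hcd]
    exact mul_mem (Subgroup.mem_sup_left hc) (Subgroup.mem_sup_right hd)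

/-- A perfect subgroup of `T ⊔ M` lies below a perfect subgroup of `T` joined with `M`. -/
theorem exists_perf_le_sup [Finite G] {T M L : Subgroup G} (hT : T ≤ Subgroup.normalizer (M : Set G)) (hL : IsPerf L)
    (hLTM : L ≤ T ⊔ M) : ∃ L' ≤ T, IsPerf L' ∧ L ≤ L' ⊔ M := by
  obtain ⟨n, hn⟩ := exists_dser_perf T
  refine ⟨dser T n, dser_le T n, hn, ?_⟩
  rw [← hL.dser n]
  exact (dser_mono hLTM n).trans (dser_sup_le hT n)

/-- The Frattini argument for the normalizer of a subgroup. -/
theorem le_normalizer_sup_of_sylow [Finite G] {p : ℕ} [hp : Fact p.Prime] {M P L : Subgroup G}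
    (hLM : L ≤ Subgroup.normalizer (M : Set G)) (hPM : P ≤ M) (hP : IsPGroup p P) (hidx : ¬ p ∣ P.relIndex M) :
    L ≤ (Subgroup.normalizer (P : Set G) ⊓ Subgroup.normalizer (M : Set G)) ⊔ M := by
  intro l hl
  have hlM := hLM hl
  have hPM' : IsPGroup p (P.subgroupOf M) := hP.comap_of_injective _ M.subtype_injective
  let S₀ : Sylow p M := hPM'.toSylow hidx
  have hQle : P.map (MulAut.conj l).toMonoidHom ≤ M := by
    rintro _ ⟨x, hx, rfl⟩
    exact (Subgroup.mem_normalizer_iff.1 hlM x).1 (hPM hx)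
  let Q : Subgroup M := (P.map (MulAut.conj l).toMonoidHom).subgroupOf M
  have hQp : IsPGroup p Q := (hP.map _).comap_of_injective _ M.subtype_injective
  obtain ⟨S₁, hS₁⟩ := hQp.exists_le_sylow
  obtain ⟨x, hx⟩ := MulAction.exists_smul_eq M S₁ S₀
  set g : G := (x : G) * l with hg
  have hgP : g ∈ Subgroup.normalizer (P : Set G) := by
    have hsub : P.map (MulAut.conj g).toMonoidHom ≤ P := by
      rintro _ ⟨y, hy, rfl⟩
      have h1 : (⟨l * y * l⁻¹, hQle ⟨y, hy, rfl⟩⟩ : M) ∈ (S₁ : Subgroup M) := hS₁ ⟨y, hy, rfl⟩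
      have h2 : x * ⟨l * y * l⁻¹, hQle ⟨y, hy, rfl⟩⟩ * x⁻¹ ∈ (S₀ : Subgroup M) := by
        rw [← hx, Sylow.coe_subgroup_smul]
        exact Subgroup.smul_mem_pointwise_smul _ (MulAut.conj x) _ h1
      show g * y * g⁻¹ ∈ P
      have h3 : ((x * ⟨l * y * l⁻¹, hQle ⟨y, hy, rfl⟩⟩ * x⁻¹ : M) : G) ∈ P := h2
      simpa [hg, mul_assoc] using h3
    have heq : P.map (MulAut.conj g).toMonoidHom = P :=
      Subgroup.eq_of_le_of_card_ge hsub
        (Subgroup.card_map_of_injective (MulAut.conj g).injective).ge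
    rw [Subgroup.mem_normalizer_iff]
    intro y
    refine ⟨fun hy => hsub ⟨y, hy, rfl⟩, fun hy => ?_⟩
    rw [← heq] at hy
    obtain ⟨z, hz, hze⟩ := hy
    have : z = y := (MulAut.conj g).injective hze
    rwa [← this]
  have hgM : g ∈ Subgroup.normalizer (M : Set G) := mul_mem (Subgroup.le_normalizer x.2) hlM
  rw [show l = (x : G)⁻¹ * g by rw [hg, inv_mul_cancel_left]]
  exact mul_mem (Subgroup.mem_sup_right (inv_mem x.2)) (Subgroup.mem_sup_left ⟨hgP, hgM⟩)

section Commutant

variable {V : Type*} [CommGroup V]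

/-- No invariant subgroup but the trivial ones. -/
def Irr (S : Set (MulAut V)) : Prop :=
  ∀ W : Subgroup V, (∀ s ∈ S, ∀ w ∈ W, s w ∈ W) → W = ⊥ ∨ W = ⊤

/-- The endomorphisms commuting with `S`. -/
def commRing (S : Set (MulAut V)) : Subring (AddMonoid.End (Additive V)) where
  carrier := {f | ∀ s ∈ S, ∀ v : V, (f (Additive.ofMul (s v))).toMul = s (f (Additive.ofMul v)).toMul}
  one_mem' _ _ _ := rfl
  zero_mem' s _ _ := (map_one s).symm
  mul_mem' {f g} hf hg s hs v := by
    show (f (g (Additive.ofMul (s v)))).toMul = _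
    have := hg s hs v
    rw [← ofMul_toMul (g (Additive.ofMul (s v))), this, hf s hs]
    rfl
  add_mem' {f g} hf hg s hs v := by
    show ((f (Additive.ofMul (s v))).toMul * (g (Additive.ofMul (s v))).toMul) = _
    rw [hf s hs, hg s hs, ← map_mul]
    rfl
  neg_mem' {f} hf s hs v := by
    show ((f (Additive.ofMul (s v))).toMul)⁻¹ = _
    rw [hf s hs, ← map_inv]
    rfl

/-- An automorphism as an endomorphism. -/
def toEnd : MulAut V →* AddMonoid.End (Additive V) where
  toFun f := MonoidHom.toAdditive f.toMonoidHom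
  map_one' := rfl
  map_mul' _ _ := rfl

theorem toEnd_mem {S : Set (MulAut V)} {f : MulAut V} (hf : ∀ s ∈ S, f * s = s * f) :
    toEnd f ∈ commRing S :=
  fun s hs v => MulEquiv.congr_fun (hf s hs) v

variable [Finite V] [Nontrivial V]

theorem noZeroDivisors_of_irr {S : Set (MulAut V)} (hS : Irr S) : NoZeroDivisors (commRing S) := by
  have hinj : ∀ f : commRing S, f ≠ 0 → Function.Injective (f : AddMonoid.End (Additive V)) := fun f hf => by
    let K : Subgroup V :=
      { carrier := {v | ((f : AddMonoid.End (Additive V)) (Additive.ofMul v)) = 0}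
        one_mem' := map_zero (f : AddMonoid.End (Additive V))
        mul_mem' := fun {a b} ha hb => by
          show (f : AddMonoid.End (Additive V)) (Additive.ofMul a + Additive.ofMul b) = 0
          rw [map_add, ha, hb, add_zero]
        inv_mem' := fun {a} ha => by
          show (f : AddMonoid.End (Additive V)) (-Additive.ofMul a) = 0
          rw [map_neg, ha, neg_zero] }
    have hK : K = ⊥ ∨ K = ⊤ := hS K fun s hs w hw => by
      show (f : AddMonoid.End (Additive V)) (Additive.ofMul (s w)) = 0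
      rw [← ofMul_toMul ((f : AddMonoid.End (Additive V)) (Additive.ofMul (s w))), f.2 s hs w,
        show (f : AddMonoid.End (Additive V)) (Additive.ofMul w) = 0 from hw, toMul_zero, map_one]
      rfl
    rcases hK with h | h
    · refine (injective_iff_map_eq_zero _).2 fun a ha => ?_
      have h1 : a.toMul ∈ K := ha
      rw [h, Subgroup.mem_bot] at h1
      exact h1
    · exact absurd (Subtype.ext (AddMonoidHom.ext fun a => show a.toMul ∈ K by rw [h]; trivial)) hf
  refine ⟨fun {f g} hfg => or_iff_not_imp_left.2 fun hf => Subtype.ext (AddMonoidHom.ext fun a => ?_)⟩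
  refine hinj f hf ?_
  exact (DFunLike.congr_fun (congrArg Subtype.val hfg) a).trans (map_zero (f : AddMonoid.End (Additive V))).symm

theorem isField_commRing {S : Set (MulAut V)} (hS : Irr S) : IsField (commRing S) := by
  haveI := noZeroDivisors_of_irr hS
  haveI : Nontrivial (commRing S) := ⟨1, 0, fun h => by
    obtain ⟨v, hv⟩ := exists_ne (1 : V)
    exact hv (congrArg Additive.toMul (DFunLike.congr_fun (congrArg Subtype.val h) (Additive.ofMul v)))⟩
  haveI : IsDomain (commRing S) := NoZeroDivisors.to_isDomain _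
  haveI : Finite (AddMonoid.End (Additive V)) := Finite.of_injective (fun f => (f : Additive V → Additive V))
    DFunLike.coe_injective
  exact Finite.isDomain_to_isField _

/-- Automorphisms commuting with an irreducible set commute. -/
theorem commute_of_irr {S : Set (MulAut V)} (hS : Irr S) {f g : MulAut V} (hf : ∀ s ∈ S, f * s = s * f)
    (hg : ∀ s ∈ S, g * s = s * g) : f * g = g * f := by
  have h := congrArg Subtype.val ((isField_commRing hS).mul_comm ⟨_, toEnd_mem hf⟩ ⟨_, toEnd_mem hg⟩)
  exact MulEquiv.ext fun v => congrArg Additive.toMul (DFunLike.congr_fun h (Additive.ofMul v))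

/-- A group of automorphisms commuting with an irreducible set is cyclic. -/
theorem isCyclic_of_irr {S : Set (MulAut V)} (hS : Irr S) (U : Subgroup (MulAut V))
    (hU : ∀ f ∈ U, ∀ s ∈ S, f * s = s * f) : IsCyclic U := by
  letI := (isField_commRing hS).toField
  refine isCyclic_of_subgroup_isDomain
    { toFun := fun f : U => (⟨toEnd f.1, toEnd_mem (hU f.1 f.2)⟩ : commRing S)
      map_one' := rfl
      map_mul' := fun _ _ => rfl } fun a b h => Subtype.ext (MulEquiv.ext fun v => ?_)
  exact congrArg Additive.toMul (DFunLike.congr_fun (congrArg Subtype.val h) (Additive.ofMul v))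

end Commutant

/-- A perfect subgroup normalizing a cyclic one centralizes it. -/
theorem IsPerf.commute_of_cyclic {L U : Subgroup G} (hL : IsPerf L) [hU : IsCyclic U]
    (hn : L ≤ Subgroup.normalizer (U : Set G)) {l u : G} (hl : l ∈ L) (hu : u ∈ U) : l * u = u * l := by
  obtain ⟨g, hg⟩ := hU.exists_generator
  have hconj : ∀ a ∈ L, ∃ k : ℤ, a * g * a⁻¹ = (g : G) ^ k := fun a ha => by
    obtain ⟨k, hk⟩ := Subgroup.mem_zpowers_iff.1
      (hg ⟨a * g * a⁻¹, (Subgroup.mem_normalizer_iff.1 (hn ha) g).1 g.2⟩)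
    exact ⟨k, (congrArg Subtype.val hk).symm⟩
  have key : ⁅L, L⁆ ≤ Subgroup.centralizer ({(g : G)} : Set G) := by
    rw [Subgroup.commutator_le]
    intro a ha b hb
    obtain ⟨i, hi⟩ := hconj a ha
    obtain ⟨j, hj⟩ := hconj b hb
    have e1 : (a * b) * g * (a * b)⁻¹ = (g : G) ^ (i * j) := by
      rw [show a * b * g * (a * b)⁻¹ = a * (b * g * b⁻¹) * a⁻¹ by group, hj, ← conj_zpow, hi, ← zpow_mul]
    have e2 : (b * a) * g * (b * a)⁻¹ = (g : G) ^ (i * j) := by
      rw [show b * a * g * (b * a)⁻¹ = b * (a * g * a⁻¹) * b⁻¹ by group, hi, ← conj_zpow, hj, ← zpow_mul, mul_comm j]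
    rw [Subgroup.mem_centralizer_singleton_iff, commutatorElement_def]
    have e3 : (b * a)⁻¹ * (a * b) * g = g * ((b * a)⁻¹ * (a * b)) := by
      have := e1.trans e2.symm
      calc (b * a)⁻¹ * (a * b) * g = (b * a)⁻¹ * ((a * b) * g * (a * b)⁻¹) * (a * b) := by group
        _ = (b * a)⁻¹ * ((b * a) * g * (b * a)⁻¹) * (a * b) := by rw [this]
        _ = g * ((b * a)⁻¹ * (a * b)) := by group
    have e4 : (g : G) ^ (i * j) * (a * b * a⁻¹ * b⁻¹) = a * b * a⁻¹ * b⁻¹ * (g : G) ^ (i * j) := by
      rw [← e2]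
      calc b * a * g * (b * a)⁻¹ * (a * b * a⁻¹ * b⁻¹) = (b * a) * (g * ((b * a)⁻¹ * (a * b))) * (b * a)⁻¹ := by group
        _ = (b * a) * ((b * a)⁻¹ * (a * b) * g) * (b * a)⁻¹ := by rw [e3]
        _ = _ := by group
    obtain ⟨k, hk⟩ : ∃ k : ℤ, (g : G) = ((g : G) ^ (i * j)) ^ k := by
      obtain ⟨k, hk⟩ := hconj (b * a)⁻¹ (inv_mem (mul_mem hb ha))
      refine ⟨k, ?_⟩
      calc (g : G) = (b * a) * ((b * a)⁻¹ * g * (b * a)) * (b * a)⁻¹ := by group
        _ = (b * a) * (g : G) ^ k * (b * a)⁻¹ := by rw [← hk, inv_inv]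
        _ = _ := by rw [← conj_zpow, e2]
    rw [hk]
    exact (Commute.zpow_left e4 k).eq.symm
  rw [hL] at key
  obtain ⟨k, hk⟩ := Subgroup.mem_zpowers_iff.1 (hg ⟨u, hu⟩)
  have hk' : (g : G) ^ k = u := congrArg Subtype.val hk
  rw [← hk']
  exact (Commute.zpow_right (Subgroup.mem_centralizer_singleton_iff.1 (key hl)) k).eq

end CfsgLib.OutSolv
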