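import Cfsg.Agent.Lib.OutSolv.Abelian

/-!
Groups of isometries of odd order and class at most two are abelian.
-/

set_option autoImplicit false
set_option linter.unusedSectionVars false

namespace CfsgLib.OutSolv

open scoped commutatorElement

theorem card_addHom_two (M : Type*) [AddCommGroup M] [Finite M] (h : ∀ m : M, m + m = 0) :
    Nat.card (M →+ ZMod 2) = Nat.card M := by
  letI : Module (ZMod 2) M := AddCommGroup.zmodModule fun x => by rw [two_nsmul]; exact h x
  have e : (M →+ ZMod 2) ≃ (M →ₗ[ZMod 2] ZMod 2) :=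
    { toFun := fun f => f.toZModLinearMap 2
      invFun := fun f => f.toAddMonoidHom
      left_inv := fun _ => AddMonoidHom.ext fun _ => rfl
      right_inv := fun _ => LinearMap.ext fun _ => rfl }
  rw [Nat.card_congr e, Module.natCard_eq_pow_finrank (K := ZMod 2), Module.natCard_eq_pow_finrank (K := ZMod 2) (V := M)]
  exact congrArg _ Subspace.dual_finrank_eq

/-- The biadditive forms invariant under a set of automorphisms. -/
def Forms {W : Type*} [CommGroup W] (S : Set (MulAut W)) : Type _ :=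
  {β : Additive W →+ Additive W →+ ZMod 2 //
    ∀ s ∈ S, ∀ a b : W, β (Additive.ofMul (s a)) (Additive.ofMul (s b)) = β (Additive.ofMul a) (Additive.ofMul b)}

/-- No more invariant forms than commuting endomorphisms. -/
theorem card_forms_le {W : Type*} [CommGroup W] [Finite W] [Nontrivial W] (h2 : ∀ w : W, w * w = 1)
    {S : Set (MulAut W)} (hS : Irr S) : Nat.card (Forms S) ≤ Nat.card (commRing S) := by
  haveI : Finite (AddMonoid.End (Additive W)) :=
    Finite.of_injective (fun f => (f : Additive W → Additive W)) DFunLike.coe_injective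
  by_cases hz : ∀ β : Forms S, β.1 = 0
  · haveI : Subsingleton (Forms S) := ⟨fun a b => Subtype.ext ((hz a).trans (hz b).symm)⟩
    exact (Finite.card_le_one_iff_subsingleton.2 inferInstance).trans Nat.card_pos
  push Not at hz
  obtain ⟨⟨β₀, hβ₀⟩, hne⟩ := hz
  have hinj : Function.Injective β₀ := by
    let K : Subgroup W :=
      { carrier := {a | β₀ (Additive.ofMul a) = 0}
        one_mem' := map_zero β₀
        mul_mem' := fun {a b} ha hb => by
          show β₀ (Additive.ofMul a + Additive.ofMul b) = 0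
          rw [map_add, ha, hb, add_zero]
        inv_mem' := fun {a} ha => by
          show β₀ (-Additive.ofMul a) = 0
          rw [map_neg, ha, neg_zero] }
    rcases hS K (fun s hs a ha => AddMonoidHom.ext fun b => by
      rw [← ofMul_toMul b, ← MulEquiv.apply_symm_apply s b.toMul, hβ₀ s hs,
        show β₀ (Additive.ofMul a) = 0 from ha]
      rfl) with h | h
    · refine (injective_iff_map_eq_zero _).2 fun a ha => ?_
      have h1 : a.toMul ∈ K := ha
      rw [h, Subgroup.mem_bot] at h1
      exact h1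
    · exact absurd (AddMonoidHom.ext fun a => show a.toMul ∈ K by rw [h]; trivial) hne
  haveI : Finite (Additive W →+ ZMod 2) :=
    Finite.of_injective (fun f => (f : Additive W → ZMod 2)) DFunLike.coe_injective
  have hbij : Function.Bijective β₀ :=
    (Nat.bijective_iff_injective_and_card β₀).2
      ⟨hinj, (card_addHom_two (Additive W) fun m => h2 m.toMul).symm⟩
  let e := AddEquiv.ofBijective β₀ hbij
  let T : Forms S → AddMonoid.End (Additive W) := fun β => e.symm.toAddMonoidHom.comp β.1
  have hT : ∀ (β : Forms S) a b, β₀ (T β a) b = β.1 a b := fun β a b =>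
    DFunLike.congr_fun (e.apply_symm_apply (β.1 a)) b
  have hmem : ∀ β : Forms S, T β ∈ commRing S := fun β s hs v => by
    refine Additive.ofMul.injective (hinj (AddMonoidHom.ext fun b => ?_))
    rw [ofMul_toMul, hT, ← ofMul_toMul b, ← MulEquiv.apply_symm_apply s b.toMul, β.2 s hs, hβ₀ s hs, ofMul_toMul, hT]
  refine Nat.card_le_card_of_injective (fun β => (⟨T β, hmem β⟩ : commRing S)) fun β β' h => ?_
  refine Subtype.ext (AddMonoidHom.ext fun a => AddMonoidHom.ext fun b => ?_)
  rw [← hT β, ← hT β', show T β = T β' from congrArg Subtype.val h]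

/-- Commuting with a scalar commutator forces dimension at least three. -/
theorem three_le_finrank {W : Type*} [CommGroup W] [Finite W] [Nontrivial W] {S : Set (MulAut W)} (hS : Irr S)
    {x y : MulAut W} (hx : x ∈ S) (hy : y ∈ S) (hodd : Odd (orderOf ⁅x, y⁆)) (hne : ⁅x, y⁆ ≠ 1)
    (hc : ∀ s ∈ S, ⁅x, y⁆ * s = s * ⁅x, y⁆) : Nat.card (commRing S) ^ 3 ≤ Nat.card W := by
  letI := (isField_commRing hS).toField
  haveI : Finite (AddMonoid.End (Additive W)) :=
    Finite.of_injective (fun f => (f : Additive W → Additive W)) DFunLike.coe_injective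
  haveI : Module.Finite (commRing S) (Additive W) := Module.Finite.of_finite
  let lin : ∀ s ∈ S, Additive W ≃ₗ[commRing S] Additive W := fun s hs =>
    { MulEquiv.toAdditive s with
      map_smul' := fun f a => by
        show Additive.ofMul (s ((f : AddMonoid.End (Additive W)) a).toMul) = (f : AddMonoid.End (Additive W)) _
        exact congrArg Additive.ofMul (f.2 s hs a.toMul).symm }
  let c : commRing S := ⟨toEnd ⁅x, y⁆, toEnd_mem hc⟩
  have h1 : (((⁅lin x hx, lin y hy⁆ : Additive W ≃ₗ[commRing S] Additive W)) : Additive W →ₗ[commRing S] Additive W) =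
      c • LinearMap.id := LinearMap.ext fun a => rfl
  have h2 : LinearEquiv.det ⁅lin x hx, lin y hy⁆ = 1 := by
    rw [map_commutatorElement, commutatorElement_eq_one_iff_mul_comm]
    exact mul_comm _ _
  have h3 : c ^ Module.finrank (commRing S) (Additive W) = 1 := by
    have h := congrArg Units.val h2
    rw [LinearEquiv.coe_det, h1, LinearMap.det_smul, LinearMap.det_id, mul_one] at h
    exact h
  have hcard : Nat.card W = Nat.card (commRing S) ^ Module.finrank (commRing S) (Additive W) :=
    Module.natCard_eq_pow_finrank (K := commRing S) (V := Additive W)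
  rw [hcard]
  refine Nat.pow_le_pow_right Nat.card_pos ?_
  by_contra hn
  rw [not_le] at hn
  set n := Module.finrank (commRing S) (Additive W) with hndef
  have hn0 : n ≠ 0 := fun h0 => by
    rw [h0, pow_zero] at hcard
    exact absurd hcard (Finite.one_lt_card).ne'
  have h4 : ⁅x, y⁆ ^ n = 1 := MulEquiv.ext fun v => by
    have h := DFunLike.congr_fun (congrArg Subtype.val h3) (Additive.ofMul v)
    have e : ((c ^ n : commRing S) : AddMonoid.End (Additive W)) = toEnd (⁅x, y⁆ ^ n) := by
      rw [map_pow]; rfl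
    rw [e] at h
    exact congrArg Additive.toMul h
  have h5 : orderOf ⁅x, y⁆ ∣ n := orderOf_dvd_of_pow_eq_one h4
  obtain ⟨j, hj⟩ := hodd
  have h6 := Nat.le_of_dvd (Nat.pos_of_ne_zero hn0) h5
  exact hne (orderOf_eq_one_iff.1 (by omega))

namespace Aniso

variable {A V : Type*} [CommGroup A] [CommGroup V] {Q : A → V} (hQ : Aniso Q)
include hQ

/-- Groups of isometries of odd order and class at most two are abelian. -/
theorem commute_of_class_two [Finite A] [Finite V] {E : Subgroup (MulAut A)} (hE : E ≤ isometries Q)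
    (hEo : Odd (Nat.card E)) (h2 : ∀ a ∈ E, ∀ b ∈ E, ∀ c ∈ E, ⁅a, b⁆ * c = c * ⁅a, b⁆)
    {x y : MulAut A} (hx : x ∈ E) (hy : y ∈ E) : x * y = y * x := by
  classical
  rw [← commutatorElement_eq_one_iff_mul_comm]
  by_contra hne
  haveI : Finite (MulAut A) := Finite.of_injective (fun f => (f : A → A)) DFunLike.coe_injective
  set z := ⁅x, y⁆ with hz
  have hzE : z ∈ E := by
    rw [hz, commutatorElement_def]; exact mul_mem (mul_mem (mul_mem hx hy) (inv_mem hx)) (inv_mem hy)
  have hzo : Odd (orderOf z) := hEo.of_dvd_nat (Subgroup.orderOf_dvd_natCard E hzE)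
  let U := Subgroup.closure ({x, y} : Set (MulAut A))
  have hUE : U ≤ E := (Subgroup.closure_le E).2 (Set.insert_subset hx (Set.singleton_subset_iff.2 hy))
  have hzU : z ∈ U := by
    rw [hz, commutatorElement_def]
    exact mul_mem (mul_mem (mul_mem (Subgroup.subset_closure (Or.inl rfl)) (Subgroup.subset_closure (Or.inr rfl)))
      (inv_mem (Subgroup.subset_closure (Or.inl rfl)))) (inv_mem (Subgroup.subset_closure (Or.inr rfl)))
  have hR : commRange z ≠ (⊥ : Subgroup A) := fun hb => hne (MulEquiv.ext fun c => by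
    have h := Subgroup.mem_bot.1 (hb ▸ mem_commRange.2 ⟨c, rfl⟩ : z c * c ∈ (⊥ : Subgroup A))
    rwa [mul_eq_one_iff_eq_inv, hQ.inv_eq] at h)
  obtain ⟨W, hWR, hW0, hW, hmin⟩ := exists_minimal_invariant (U : Set (MulAut A)) hR
    fun s hs w hw => hQ.apply_commRange (h2 x hx y hy s (hUE hs)).symm hw
  haveI : Nontrivial W := (Subgroup.nontrivial_iff_ne_bot W).2 hW0
  let r := restrTo U W hW
  let xU : U := ⟨x, Subgroup.subset_closure (Or.inl rfl)⟩
  let yU : U := ⟨y, Subgroup.subset_closure (Or.inr rfl)⟩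
  let S : Set (MulAut W) := r '' Set.univ
  have hirr : Irr S := irr_restrTo U W hW _ fun W' h1 h2 => hmin W' h1 fun u hu => h2 ⟨u, hu⟩ trivial
  have hrz : r ⟨z, hzU⟩ = ⁅r xU, r yU⁆ := by rw [← map_commutatorElement]; rfl
  have hfree : ∀ w ∈ W, z w = w → w = 1 := fun w hw h => hQ.fixed_inf_commRange hzo h (hWR hw)
  have hrne : ⁅r xU, r yU⁆ ≠ 1 := fun h => hW0 ((Subgroup.eq_bot_iff_forall W).2 fun w hw => hfree w hw (by
    rw [← coe_restrTo U W hW ⟨z, hzU⟩ ⟨w, hw⟩]
    show (r ⟨z, hzU⟩ ⟨w, hw⟩ : A) = w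
    rw [hrz, h]; rfl))
  have hbig := three_le_finrank hirr (x := r xU) (y := r yU) ⟨xU, trivial, rfl⟩ ⟨yU, trivial, rfl⟩
    (by rw [← hrz]; exact hzo.of_dvd_nat ((orderOf_map_dvd r _).trans (by rw [Subgroup.orderOf_mk])))
    hrne (by
      rintro _ ⟨u, -, rfl⟩
      rw [← hrz, ← map_mul, ← map_mul]
      exact congrArg r (Subtype.ext (h2 x hx y hy u (hUE u.2))))
  let V₀ := Subgroup.closure (Q '' (W : Set A))
  have hQV : ∀ w ∈ W, Q w ∈ V₀ := fun w hw => Subgroup.subset_closure ⟨w, hw, rfl⟩
  have hle := hQ.card_le_sq W V₀ hQV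
  have hpolV : ∀ a b : W, polar Q (a : A) b ∈ V₀ := fun a b =>
    mul_mem (hQV _ (a * b).2) (mul_mem (hQV _ a.2) (hQV _ b.2))
  let form : (Additive V₀ →+ ZMod 2) → Forms S := fun Λ =>
    ⟨AddMonoidHom.mk' (fun a => AddMonoidHom.mk' (fun b => Λ (Additive.ofMul ⟨_, hpolV a.toMul b.toMul⟩))
        fun b b' => by rw [← map_add]; exact congrArg Λ (congrArg Additive.ofMul (Subtype.ext (hQ.bil' _ _ _))))
      fun a a' => AddMonoidHom.ext fun b => by
        show Λ _ = Λ _ + Λ _
        rw [← map_add]; exact congrArg Λ (congrArg Additive.ofMul (Subtype.ext (hQ.bil _ _ _))), by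
      rintro _ ⟨u, -, rfl⟩ a b
      exact congrArg Λ (congrArg Additive.ofMul (Subtype.ext (hQ.polar_map (hE (hUE u.2)) _ _)))⟩
  have hform : Function.Injective form := by
    intro Λ Λ' h
    have hd : ∀ a b : W, (Λ - Λ') (Additive.ofMul ⟨_, hpolV a b⟩) = 0 := fun a b =>
      sub_eq_zero.2 (DFunLike.congr_fun (DFunLike.congr_fun (congrArg Subtype.val h) (Additive.ofMul a)) (Additive.ofMul b))
    let q : W → ZMod 2 := fun w => (Λ - Λ') (Additive.ofMul ⟨Q w, hQV _ w.2⟩)
    have hq : ∀ a b : W, q (a * b) = q a + q b := fun a b => by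
      have : (⟨Q (a * b : W), hQV _ (a * b).2⟩ : V₀) = ⟨Q a, hQV _ a.2⟩ * ⟨Q b, hQV _ b.2⟩ * ⟨_, hpolV a b⟩ :=
        Subtype.ext (hQ.apply_mul _ _)
      show (Λ - Λ') _ = _
      rw [this, ofMul_mul, ofMul_mul, map_add, map_add, hd, add_zero]
    have hq0 : ∀ w : W, q w = 0 := fun w => by
      have hinj : Function.Injective fun a : W => r ⟨z, hzU⟩ a * a := fun a b hab => by
        have h1 : r ⟨z, hzU⟩ (a * b) = a * b := by
          rw [map_mul]
          have h2' : ∀ v : W, v * v = 1 := fun v => Subtype.ext (hQ.two v)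
          calc r ⟨z, hzU⟩ a * r ⟨z, hzU⟩ b = (r ⟨z, hzU⟩ a * a) * (r ⟨z, hzU⟩ b * b) * (a * b) := by
                rw [show r ⟨z, hzU⟩ a * a * (r ⟨z, hzU⟩ b * b) * (a * b) =
                  r ⟨z, hzU⟩ a * r ⟨z, hzU⟩ b * ((a * a) * (b * b)) by ac_rfl, h2', h2', one_mul, mul_one]
            _ = a * b := by rw [show r ⟨z, hzU⟩ a * a = r ⟨z, hzU⟩ b * b from hab, h2', one_mul]
        have h3 := hfree _ (a * b).2 (congrArg Subtype.val h1)
        have h4 : (a : A) * b = 1 := h3
        rw [mul_eq_one_iff_eq_inv, hQ.inv_eq] at h4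
        exact Subtype.ext h4
      obtain ⟨a, rfl⟩ := (Finite.injective_iff_surjective.1 hinj) w
      show q (r ⟨z, hzU⟩ a * a) = 0
      rw [hq]
      have : q (r ⟨z, hzU⟩ a) = q a :=
        congrArg (fun v : V₀ => (Λ - Λ') (Additive.ofMul v)) (Subtype.ext (hE hzE a))
      rw [this, zmod_two_self]
    refine sub_eq_zero.1 (AddMonoidHom.ext fun v => ?_)
    have key : ∀ g : V, ∀ hg : g ∈ V₀, (Λ - Λ') (Additive.ofMul ⟨g, hg⟩) = 0 := fun g hg => by
      induction hg using Subgroup.closure_induction with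
      | mem g hg => obtain ⟨w, hw, rfl⟩ := hg; exact hq0 ⟨w, hw⟩
      | one => exact map_zero (Λ - Λ')
      | mul a b ha hb iha ihb =>
        rw [show (⟨a * b, mul_mem ha hb⟩ : V₀) = ⟨a, ha⟩ * ⟨b, hb⟩ from rfl, ofMul_mul, map_add, iha, ihb, add_zero]
      | inv a ha iha =>
        rw [show (⟨a⁻¹, inv_mem ha⟩ : V₀) = ⟨a, ha⟩⁻¹ from rfl, ofMul_inv, map_neg, iha, neg_zero]
    exact key _ v.toMul.2
  haveI : Finite (AddMonoid.End (Additive W)) :=
    Finite.of_injective (fun f => (f : Additive W → Additive W)) DFunLike.coe_injective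
  haveI : Finite (Additive W →+ ZMod 2) :=
    Finite.of_injective (fun f => (f : Additive W → ZMod 2)) DFunLike.coe_injective
  haveI : Finite (Forms S) := Finite.of_injective
    (fun β => ((fun a => β.1 a) : Additive W → Additive W →+ ZMod 2)) fun β β' h =>
      Subtype.ext (AddMonoidHom.ext (congrFun h))
  have hV : Nat.card V₀ ≤ Nat.card (commRing S) :=
    calc Nat.card V₀ = Nat.card (Additive V₀ →+ ZMod 2) :=
          (card_addHom_two (Additive V₀) fun m => Subtype.ext (hQ.two' m.toMul)).symm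
      _ ≤ Nat.card (Forms S) := Nat.card_le_card_of_injective form hform
      _ ≤ _ := card_forms_le (fun w : W => Subtype.ext (hQ.two w)) hirr
  haveI : Nontrivial (commRing S) := (isField_commRing hirr).nontrivial
  have h1 : 1 < Nat.card (commRing S) := Finite.one_lt_card
  have h32 := hbig.trans (hle.trans (Nat.pow_le_pow_left hV 2))
  exact absurd h32 (not_le.2 (Nat.pow_lt_pow_right h1 (by norm_num)))

end Aniso

end CfsgLib.OutSolv
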