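import Cfsg.Agent.Lib.OutSolv.ClassTwo

/-!
Perfect groups of isometries of an anisotropic map centralize groups of odd order and are trivial
under an irreducible similitude group commuting with them.
-/

set_option autoImplicit false
set_option linter.unusedSectionVars false

namespace CfsgLib.OutSolv

open scoped commutatorElement

theorem isSolvable_of_odd_card {G : Type*} [Group G] [Finite G] (h : Odd (Nat.card G)) : Group.IsSolvable G :=
  CfsgLib.OddOrder.solvable_of_odd _ G rfl h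

theorem le_normalizer_commutator {G : Type*} [Group G] {L N : Subgroup G}
    (hn : L ≤ Subgroup.normalizer (N : Set G)) : L ≤ Subgroup.normalizer ((⁅N, N⁆ : Subgroup G) : Set G) := by
  intro l hl
  have h : ∀ a ∈ L, ∀ x ∈ ⁅N, N⁆, a * x * a⁻¹ ∈ ⁅N, N⁆ := fun a ha x hx => by
    have hle : N.map (MulAut.conj a).toMonoidHom ≤ N := by
      rintro _ ⟨y, hy, rfl⟩; exact (Subgroup.mem_normalizer_iff.1 (hn ha) y).1 hy
    have h1 := Subgroup.mem_map_of_mem (MulAut.conj a).toMonoidHom hx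
    rw [Subgroup.map_commutator] at h1
    exact Subgroup.commutator_mono hle hle h1
  rw [Subgroup.mem_normalizer_iff]
  refine fun x => ⟨h l hl x, fun hx => ?_⟩
  simpa [mul_assoc] using h l⁻¹ (inv_mem hl) _ hx

namespace Aniso

variable {A V : Type*} [CommGroup A] [CommGroup V] {Q : A → V} (hQ : Aniso Q)
include hQ

/-- A perfect group of isometries centralizes each group of isometries of odd order it normalizes. -/
theorem commute_of_odd [Finite A] [Finite V] {L : Subgroup (MulAut A)} (hL : L ≤ isometries Q) (hP : IsPerf L) :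
    ∀ (k : ℕ) (N : Subgroup (MulAut A)), Nat.card N = k → N ≤ isometries Q → Odd (Nat.card N) →
      L ≤ Subgroup.normalizer (N : Set (MulAut A)) → ∀ l ∈ L, ∀ n ∈ N, l * n = n * l := by
  haveI : Finite (MulAut A) := Finite.of_injective (fun f => (f : A → A)) DFunLike.coe_injective
  intro k
  induction k using Nat.strong_induction_on with
  | _ k ih =>
    intro N hk hN hodd hn l hl n hnN
    rcases eq_or_ne N ⊥ with rfl | hne
    · rw [Subgroup.mem_bot.1 hnN, mul_one, one_mul]
    set D : Subgroup (MulAut A) := ⁅N, N⁆ with hD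
    have hDN : D ≤ N := Subgroup.commutator_le_self N
    have hlt : Nat.card D < k := by
      rw [← hk]
      refine lt_of_le_of_ne (Subgroup.card_le_of_le hDN) fun e => hne ?_
      exact IsPerf.eq_bot_of_solvable (Subgroup.eq_of_le_of_card_ge hDN e.ge) (isSolvable_of_odd_card hodd)
    have hLD : ∀ a ∈ L, ∀ d ∈ D, a * d = d * a :=
      ih _ hlt D rfl (hDN.trans hN) (hodd.of_dvd_nat (Subgroup.card_dvd_of_le hDN)) (le_normalizer_commutator hn)
    have hmem : ∀ a ∈ L, ∀ b ∈ N, a * b * a⁻¹ ∈ N := fun a ha b hb =>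
      (Subgroup.mem_normalizer_iff.1 (hn ha) b).1 hb
    let C : Subgroup (MulAut A) := N ⊓ Subgroup.centralizer (D : Set (MulAut A))
    have hCN : C ≤ N := inf_le_left
    have hCo : Odd (Nat.card C) := hodd.of_dvd_nat (Subgroup.card_dvd_of_le hCN)
    have hCc : ∀ a ∈ C, ∀ b ∈ C, a * b = b * a := fun a ha b hb =>
      hQ.commute_of_class_two (hCN.trans hN) hCo (fun u hu v hv w hw =>
        Subgroup.mem_centralizer_iff.1 hw.2 _ (Subgroup.commutator_mem_commutator hu.1 hv.1)) ha hb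
    have hLC : L ≤ Subgroup.normalizer (C : Set (MulAut A)) := by
      have h : ∀ a ∈ L, ∀ c ∈ C, a * c * a⁻¹ ∈ C := fun a ha c hc =>
        ⟨hmem a ha c hc.1, Subgroup.mem_centralizer_iff.2 fun d hd => by
          have h1 : d * c = c * d := Subgroup.mem_centralizer_iff.1 hc.2 d hd
          have h2 : d * a = a * d := (hLD a ha d hd).symm
          have h3 : d * a⁻¹ = a⁻¹ * d := (hLD a⁻¹ (inv_mem ha) d hd).symm
          calc d * (a * c * a⁻¹) = a * (d * c) * a⁻¹ := by rw [← mul_assoc, ← mul_assoc, h2, mul_assoc a d c]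
            _ = a * c * (d * a⁻¹) := by rw [h1, ← mul_assoc a c d, mul_assoc (a * c)]
            _ = a * c * a⁻¹ * d := by rw [h3, ← mul_assoc]⟩
      intro a ha
      rw [Subgroup.mem_normalizer_iff]
      refine fun c => ⟨h a ha c, fun hc => ?_⟩
      simpa [mul_assoc] using h a⁻¹ (inv_mem ha) _ hc
    have hLCc : ∀ a ∈ L, ∀ c ∈ C, a * c = c * a := fun a ha c hc =>
      hQ.commute_of_abelian (hCN.trans hN) hCo hCc hL hP hLC ha hc
    have hc : ∀ a ∈ L, ∀ b ∈ N, b⁻¹ * (a * b * a⁻¹) ∈ C := fun a ha b hb =>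
      ⟨N.mul_mem (N.inv_mem hb) (hmem a ha b hb), Subgroup.mem_centralizer_iff.2 fun d hd => by
        have hbd : b * d * b⁻¹ ∈ D := (Subgroup.mem_normalizer_iff.1
          (le_normalizer_commutator (Subgroup.le_normalizer (H := N)) hb) d).1 hd
        have h1 : a * (b * d * b⁻¹) * a⁻¹ = b * d * b⁻¹ := by rw [hLD a ha _ hbd, mul_inv_cancel_right]
        have h2 : a * d * a⁻¹ = d := by rw [hLD a ha d hd, mul_inv_cancel_right]
        calc d * (b⁻¹ * (a * b * a⁻¹)) = b⁻¹ * (b * d * b⁻¹) * (a * b * a⁻¹) := by group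
          _ = b⁻¹ * (a * (b * d * b⁻¹) * a⁻¹) * (a * b * a⁻¹) := by rw [h1]
          _ = b⁻¹ * (a * b * a⁻¹) * (a * d * a⁻¹) := by group
          _ = b⁻¹ * (a * b * a⁻¹) * d := by rw [h2]⟩
    have hcomp : ∀ a ∈ L, ∀ b ∈ L, (a * b) * n * (a * b)⁻¹ = n * ((n⁻¹ * (a * n * a⁻¹)) * (n⁻¹ * (b * n * b⁻¹))) := by
      intro a ha b hb
      calc (a * b) * n * (a * b)⁻¹ = (a * n * a⁻¹) * (a * (n⁻¹ * (b * n * b⁻¹)) * a⁻¹) := by group
        _ = (a * n * a⁻¹) * (n⁻¹ * (b * n * b⁻¹)) := by rw [hLCc a ha _ (hc b hb n hnN), mul_inv_cancel_right]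
        _ = _ := by group
    have key : ⁅L, L⁆ ≤ Subgroup.centralizer ({n} : Set (MulAut A)) := by
      rw [Subgroup.commutator_le]
      intro a ha b hb
      have e : (a * b) * n * (a * b)⁻¹ = (b * a) * n * (b * a)⁻¹ := by
        rw [hcomp a ha b hb, hcomp b hb a ha, hCc _ (hc a ha n hnN) _ (hc b hb n hnN)]
      rw [Subgroup.mem_centralizer_singleton_iff]
      have e' : ∀ a' ∈ L, ∀ b' ∈ L, ∀ n' : MulAut A, n' = n → (a' * b') * n' * (a' * b')⁻¹ = (b' * a') * n' * (b' * a')⁻¹ :=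
        fun a' ha' b' hb' n' h => by rw [h, hcomp a' ha' b' hb', hcomp b' hb' a' ha', hCc _ (hc a' ha' n hnN) _ (hc b' hb' n hnN)]
      have e2 := e' a⁻¹ (inv_mem ha) b⁻¹ (inv_mem hb) n rfl
      rw [commutatorElement_def]
      calc a * b * a⁻¹ * b⁻¹ * n = (a * b) * ((a⁻¹ * b⁻¹) * n * (a⁻¹ * b⁻¹)⁻¹) * (a⁻¹ * b⁻¹) := by group
        _ = (a * b) * ((b⁻¹ * a⁻¹) * n * (b⁻¹ * a⁻¹)⁻¹) * (a⁻¹ * b⁻¹) := by rw [e2]
        _ = n * (a * b * a⁻¹ * b⁻¹) := by group
    rw [hP] at key
    exact Subgroup.mem_centralizer_singleton_iff.1 (key hl)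

/-- A perfect group of isometries centralizes a group whose commutators with it lie in an odd one. -/
theorem commute_of_commutator_odd [Finite A] [Finite V] {L M N : Subgroup (MulAut A)} (hL : L ≤ isometries Q)
    (hP : IsPerf L) (hN : N ≤ isometries Q) (hodd : Odd (Nat.card N))
    (hn : L ≤ Subgroup.normalizer (N : Set (MulAut A))) (hLM : ⁅L, M⁆ ≤ N) :
    ∀ l ∈ L, ∀ m ∈ M, l * m = m * l := by
  have hNL : ∀ K : Subgroup (MulAut A), K ≤ N → ⁅K, L⁆ = ⊥ := fun K hK => by
    rw [Subgroup.commutator_eq_bot_iff_le_centralizer]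
    exact fun x hx => Subgroup.mem_centralizer_iff.2 fun l hl => hQ.commute_of_odd hL hP _ N rfl hN hodd hn l hl x (hK hx)
  have h := Subgroup.commutator_commutator_eq_bot_of_rotate (H₁ := L) (H₂ := L) (H₃ := M)
    (hNL _ hLM) (hNL _ (by rw [Subgroup.commutator_comm]; exact hLM))
  rw [hP, Subgroup.commutator_eq_bot_iff_le_centralizer] at h
  exact fun l hl m hm => (Subgroup.mem_centralizer_iff.1 (h hl) m hm).symm

/-- No perfect group of isometries commutes with an irreducible group of similitudes. -/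
theorem eq_bot_of_irr [Finite A] [Finite V] [Nontrivial V] {L M : Subgroup (MulAut A)} (hL : L ≤ isometries Q)
    (hP : IsPerf L) (hLM : ∀ l ∈ L, ∀ m ∈ M, l * m = m * l) (π : M → MulAut V)
    (hπ : ∀ (m : M) a, Q ((m : MulAut A) a) = π m (Q a)) (hirr : Irr (Set.range π)) : L = ⊥ := by
  classical
  haveI : Finite (MulAut A) := Finite.of_injective (fun f => (f : A → A)) DFunLike.coe_injective
  haveI : Fact (Nat.Prime 2) := ⟨Nat.prime_two⟩
  obtain ⟨T⟩ : Nonempty (Sylow 2 L) := inferInstance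
  suffices hT : (T : Subgroup L) = ⊥ by
    refine hP.eq_bot_of_solvable (isSolvable_of_odd_card ?_)
    have h := T.not_dvd_index
    rw [hT, Subgroup.index_bot] at h
    exact Nat.not_even_iff_odd.1 fun he => h he.two_dvd
  by_contra hT
  haveI : Nontrivial (T : Subgroup L) := (Subgroup.nontrivial_iff_ne_bot _).2 hT
  haveI := T.isPGroup'.center_nontrivial
  obtain ⟨k, hk, hcard⟩ := (T.isPGroup'.to_subgroup (Subgroup.center (T : Subgroup L))).nontrivial_iff_card.1
    inferInstance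
  obtain ⟨z, hz⟩ := exists_prime_orderOf_dvd_card' (G := Subgroup.center (T : Subgroup L)) 2
    (hcard ▸ dvd_pow_self 2 (Nat.pos_iff_ne_zero.1 hk))
  set tL : L := ((z : (T : Subgroup L)) : L) with htL
  set t : MulAut A := (tL : MulAut A) with ht
  have htord : orderOf t = 2 := by
    rw [ht, Subgroup.orderOf_coe, htL, Subgroup.orderOf_coe, Subgroup.orderOf_coe, hz]
  have htcomm : ∀ l ∈ (T : Subgroup L), t * (l : MulAut A) = (l : MulAut A) * t := fun l hl => by
    have h := congrArg (fun x : (T : Subgroup L) => ((x : L) : MulAut A)) (Subgroup.mem_center_iff.1 z.2 ⟨l, hl⟩)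
    exact h.symm
  have htt : ∀ a, t (t a) = a := fun a => by
    rw [← MulAut.mul_apply, ← pow_two, ← htord, pow_orderOf_eq_one, MulAut.one_apply]
  have htQ : t ∈ isometries Q := hL tL.2
  set I := commRange (A := A) t with hI
  have hIK : ∀ x ∈ I, t x = x := fun x hx => by
    obtain ⟨c, rfl⟩ := mem_commRange.1 hx
    rw [map_mul, htt, mul_comm]
  have hpI : ∀ x ∈ I, ∀ y ∈ I, polar Q x y = 1 := fun x hx y hy => hQ.polar_fixed_commRange htQ (hIK x hx) hy
  let q : I →* V :=
    { toFun := fun x => Q x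
      map_one' := hQ.apply_one
      map_mul' := fun x y => by
        show Q ((x : A) * y) = _
        rw [hQ.apply_mul, hpI x x.2 y y.2, mul_one] }
  have hqinj : Function.Injective q :=
    (injective_iff_map_eq_one q).2 fun x hx => Subtype.ext (hQ.zero _ hx)
  have hIne : I ≠ ⊥ := fun hb => by
    have h1 : t = 1 := MulEquiv.ext fun c => by
      have h := Subgroup.mem_bot.1 (hb ▸ mem_commRange.2 ⟨c, rfl⟩ : t c * c ∈ (⊥ : Subgroup A))
      rwa [mul_eq_one_iff_eq_inv, hQ.inv_eq] at h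
    rw [h1, orderOf_one] at htord
    omega
  have hqtop : q.range = ⊤ := by
    refine (hirr q.range ?_).resolve_left fun h => hIne ((Subgroup.eq_bot_iff_forall I).2 fun x hx => ?_)
    · rintro _ ⟨m, rfl⟩ _ ⟨x, rfl⟩
      exact ⟨⟨(m : MulAut A) x, hQ.apply_commRange (hLM _ tL.2 _ m.2).symm x.2⟩, hπ m x⟩
    · exact congrArg Subtype.val (hqinj ((Subgroup.mem_bot.1 (h ▸ MonoidHom.mem_range.2 ⟨⟨x, hx⟩, rfl⟩ :
        q ⟨x, hx⟩ ∈ (⊥ : Subgroup V))).trans (map_one q).symm))
  have hIV : Nat.card I = Nat.card V :=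
    Nat.card_eq_of_bijective q ⟨hqinj, MonoidHom.range_eq_top.1 hqtop⟩
  have hker : fixed (A := A) t = I := by
    refine (Subgroup.eq_of_le_of_card_ge (fun x hx => hQ.mem_fixed.2 (hIK x hx)) ?_).symm
    have h1 : Nat.card (fixed (A := A) t) * Nat.card I = Nat.card A := by
      rw [hI, fixed, commRange, ← Subgroup.index_ker, Subgroup.card_mul_index]
    have h2 := hQ.card_le_sq ⊤ ⊤ fun _ _ => trivial
    rw [Subgroup.card_top, Subgroup.card_top, ← h1, pow_two, hIV] at h2
    rw [hIV]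
    exact Nat.le_of_mul_le_mul_right h2 Nat.card_pos
  have hfix : ∀ l ∈ L, (∀ x ∈ I, l x ∈ I) → ∀ x ∈ I, l x = x := fun l hl h x hx =>
    congrArg Subtype.val (hqinj (a₁ := ⟨l x, h x hx⟩) (a₂ := ⟨x, hx⟩) (hL hl x))
  have hsq : ∀ l ∈ L, (∀ x ∈ I, l x ∈ I) → l * l = 1 := fun l hl h => MulEquiv.ext fun c => by
    have hy : l c * c ∈ commRange l := mem_commRange.2 ⟨c, rfl⟩
    set y := l c * c with hydef
    have h1 : polar Q (t y) y = 1 := by
      have hx : t y * y ∈ I := mem_commRange.2 ⟨y, rfl⟩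
      have e : t y = t y * y * y := by rw [mul_assoc, hQ.two, mul_one]
      rw [e, hQ.bil, hQ.polar_self, mul_one]
      exact hQ.polar_fixed_commRange (hL hl) (hfix l hl h _ hx) hy
    have h2 : t y * y = 1 := hQ.zero _ (by rw [hQ.apply_mul, htQ, hQ.two', one_mul, h1])
    have hyI : y ∈ I := hker ▸ hQ.mem_fixed.2 (by rwa [mul_eq_one_iff_eq_inv, hQ.inv_eq] at h2)
    have h3 := hfix l hl h y hyI
    rw [hydef, map_mul] at h3
    show l (l c) = c
    exact mul_right_cancel (h3.trans (mul_comm (l c) c))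
  let St : Subgroup (MulAut A) :=
    { carrier := {l | l ∈ L ∧ ∀ x ∈ I, l x = x}
      one_mem' := ⟨L.one_mem, fun _ _ => rfl⟩
      mul_mem' := fun {a b} ha hb => ⟨mul_mem ha.1 hb.1, fun x hx => by rw [MulAut.mul_apply, hb.2 x hx, ha.2 x hx]⟩
      inv_mem' := fun {a} ha => ⟨inv_mem ha.1, fun x hx => by
        conv_lhs => rw [← ha.2 x hx]
        exact MulAut.inv_apply_self _ a x⟩ }
  have hTSt : ∀ l ∈ (T : Subgroup L), (l : MulAut A) ∈ St := fun l hl =>
    ⟨l.2, hfix _ l.2 fun x hx => hQ.apply_commRange (htcomm l hl).symm hx⟩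
  have hStc : ∀ a ∈ St, ∀ b ∈ St, a * b = b * a := fun a ha b hb => by
    have s : ∀ u ∈ St, u⁻¹ = u := fun u hu =>
      inv_eq_of_mul_eq_one_left (hsq u hu.1 fun x hx => (hu.2 x hx).symm ▸ hx)
    calc a * b = (a * b)⁻¹ := (s _ (mul_mem ha hb)).symm
      _ = b * a := by rw [mul_inv_rev, s a ha, s b hb]
  have hNT : Subgroup.normalizer ((T : Subgroup L) : Set L) ≤ Subgroup.centralizer ((T : Subgroup L) : Set L) := by
    intro l hl
    have ht' := hTSt _ ((Subgroup.mem_normalizer_iff.1 hl tL).1 (z : (T : Subgroup L)).2)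
    have hlI : ∀ x ∈ I, (l : MulAut A)⁻¹ x ∈ I := fun x hx => by
      have h : ((l * tL * l⁻¹ : L) : MulAut A) x = x := ht'.2 x hx
      have h' : t ((l : MulAut A)⁻¹ x) = (l : MulAut A)⁻¹ x := by
        rw [← MulAut.mul_apply]
        conv_rhs => rw [← h, ← MulAut.mul_apply]
        congr 1
        push_cast
        rw [← ht]
        group
      exact hker ▸ hQ.mem_fixed.2 h'
    have hlSt : (l : MulAut A) ∈ St := inv_mem_iff.1 ⟨inv_mem l.2, hfix _ (inv_mem l.2) hlI⟩
    exact Subgroup.mem_centralizer_iff.2 fun s hs => Subtype.ext (hStc _ (hTSt s hs) _ hlSt)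
  have hcompl := MonoidHom.ker_transferSylow_isComplement' T hNT
  have htop : commutator L = ⊤ := by
    refine Subgroup.map_injective L.subtype_injective ?_
    rw [commutator_def, Subgroup.map_commutator, ← MonoidHom.range_eq_map, Subgroup.range_subtype, hP]
  haveI hTc : IsMulCommutative (T : Subgroup L) :=
    ⟨⟨fun a b => Subtype.ext (Subtype.ext (hStc _ (hTSt a a.2) _ (hTSt b b.2)))⟩⟩
  have hk : (MonoidHom.transferSylow T hNT).ker = ⊤ := top_le_iff.1 (htop ▸ by
    rw [commutator_def, Subgroup.commutator_le]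
    intro a _ b _
    rw [MonoidHom.mem_ker, map_commutatorElement, commutatorElement_eq_one_iff_mul_comm]
    exact IsMulCommutative.is_comm.comm _ _)
  rw [hk] at hcompl
  exact hT (Subgroup.isComplement'_top_left.1 hcompl)

end Aniso

end CfsgLib.OutSolv
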