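import Cfsg.Agent.Lib.OutSolv.Basic
import Cfsg.Agent.Lib.FourMove.Basic
import Cfsg.Agent.S2904
import Cfsg.Agent.S4337

/-!
A perfect group normalizing a group of automorphisms that is transitive on the nonidentity elements of an
elementary abelian 2-group lies inside it.
-/

set_option autoImplicit false
set_option linter.unusedSectionVars false

namespace CfsgLib.OutSolv

open scoped commutatorElement

universe u

section Aut

/-- The subgroups of order three. -/
abbrev SubThree (Q : Type*) [Group Q] := {H : Subgroup Q // Nat.card H = 3}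

theorem card_subThree_le {Q : Type*} [Group Q] [Finite Q] (hQ : Nat.card Q = 9) : Nat.card (SubThree Q) ≤ 4 := by
  classical
  haveI : Fact (Nat.Prime 3) := ⟨Nat.prime_three⟩
  let f : (Σ H : SubThree Q, {x : H.1 // x ≠ 1}) → {x : Q // x ≠ 1} :=
    fun p => ⟨(p.2.1 : Q), fun e => p.2.2 (Subtype.ext e)⟩
  have hf : Function.Injective f := by
    rintro ⟨⟨H, hH⟩, ⟨x, hx⟩⟩ ⟨⟨K, hK⟩, ⟨y, hy⟩⟩ e
    have exy : (x : Q) = y := congrArg Subtype.val e
    have hx' : (x : Q) ≠ 1 := fun h => hx (Subtype.ext h)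
    have hz : ∀ (M : Subgroup Q), Nat.card M = 3 → (x : Q) ∈ M → Subgroup.zpowers (x : Q) = M := fun M hM hm => by
      refine Subgroup.eq_of_le_of_card_ge (by rwa [Subgroup.zpowers_le]) ?_
      rw [Nat.card_zpowers, hM]
      have h3 := Subgroup.orderOf_dvd_natCard M hm
      rw [hM] at h3
      rcases (Nat.dvd_prime Nat.prime_three).1 h3 with h | h
      · exact absurd (orderOf_eq_one_iff.1 h) hx'
      · omega
    have hHK : H = K := (hz H hH x.2).symm.trans (hz K hK (by rw [exy]; exact y.2))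
    subst hHK
    simp only [Sigma.mk.injEq, heq_eq_eq, true_and, Subtype.mk.injEq]
    exact Subtype.ext exy
  have h := Nat.card_le_card_of_injective f hf
  haveI := Fintype.ofFinite (SubThree Q)
  haveI := Fintype.ofFinite Q
  rw [Nat.card_sigma, Finset.sum_congr rfl (fun (H : SubThree Q) _ => show Nat.card {x : H.1 // x ≠ 1} = 2 from ?_),
    Finset.sum_const, Finset.card_univ, smul_eq_mul, ← Nat.card_eq_fintype_card] at h
  · have h8 : Nat.card {x : Q // x ≠ 1} = 8 := by
      rw [Nat.card_eq_fintype_card, Fintype.card_subtype_compl, Fintype.card_subtype_eq, ← Nat.card_eq_fintype_card, hQ]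
    omega
  · haveI := Fintype.ofFinite H.1
    rw [Nat.card_eq_fintype_card, Fintype.card_subtype_compl, Fintype.card_subtype_eq, ← Nat.card_eq_fintype_card, H.2]

/-- An automorphism group whose maps send each element to one of its powers is commutative. -/
theorem commute_of_power {Q : Type*} [Group Q] (a b : MulAut Q) (ha : ∀ x : Q, a x ∈ Subgroup.zpowers x)
    (hb : ∀ x : Q, b x ∈ Subgroup.zpowers x) : a * b = b * a := by
  refine MulEquiv.ext fun x => ?_
  obtain ⟨i, hi⟩ := Subgroup.mem_zpowers_iff.1 (ha x)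
  obtain ⟨j, hj⟩ := Subgroup.mem_zpowers_iff.1 (hb x)
  show a (b x) = b (a x)
  rw [← hj, ← hi, map_zpow, map_zpow, ← hi, ← hj, ← zpow_mul, ← zpow_mul, mul_comm]

theorem solvable_mulAut_of_dvd_nine {Q : Type*} [Group Q] [Finite Q] (hQ : Nat.card Q ∣ 9) :
    Group.IsSolvable (MulAut Q) := by
  classical
  haveI : Fact (Nat.Prime 3) := ⟨Nat.prime_three⟩
  by_cases hc : IsCyclic Q
  · obtain ⟨g, hg⟩ := hc.exists_generator
    refine Group.isSolvable_of_comm fun a b => ?_
    have hpow : ∀ (c : MulAut Q) (x : Q), c x ∈ Subgroup.zpowers x := fun c x => by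
      obtain ⟨n, rfl⟩ := Subgroup.mem_zpowers_iff.1 (hg x)
      obtain ⟨i, hi⟩ := Subgroup.mem_zpowers_iff.1 (hg (c g))
      exact Subgroup.mem_zpowers_iff.2 ⟨i, by rw [map_zpow, ← hi, ← zpow_mul, ← zpow_mul, mul_comm]⟩
    exact commute_of_power a b (hpow a) (hpow b)
  obtain ⟨k, hk2, hk⟩ := (Nat.dvd_prime_pow Nat.prime_three).1 (show Nat.card Q ∣ 3 ^ 2 by simpa using hQ)
  have h9 : Nat.card Q = 9 := by
    interval_cases k
    · haveI := (Nat.card_eq_one_iff_unique.1 hk).1
      exact absurd isCyclic_of_subsingleton hc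
    · exact absurd (isCyclic_of_prime_card (p := 3) (by simpa using hk)) hc
    · simpa using hk
  let φ : MulAut Q →* Equiv.Perm (SubThree Q) :=
    { toFun := fun a =>
        { toFun := fun H => ⟨H.1.map a.toMonoidHom, by rw [Subgroup.card_map_of_injective a.injective, H.2]⟩
          invFun := fun H => ⟨H.1.map a.symm.toMonoidHom, by
            rw [Subgroup.card_map_of_injective a.symm.injective, H.2]⟩
          left_inv := fun H => Subtype.ext (by
            show (H.1.map a.toMonoidHom).map a.symm.toMonoidHom = H.1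
            rw [Subgroup.map_map]; convert H.1.map_id; exact MonoidHom.ext fun x => a.symm_apply_apply x)
          right_inv := fun H => Subtype.ext (by
            show (H.1.map a.symm.toMonoidHom).map a.toMonoidHom = H.1
            rw [Subgroup.map_map]; convert H.1.map_id; exact MonoidHom.ext fun x => a.apply_symm_apply x) }
      map_one' := Equiv.ext fun H => Subtype.ext (by
        show H.1.map (MonoidHom.id Q) = H.1
        exact H.1.map_id)
      map_mul' := fun a b => Equiv.ext fun H => Subtype.ext (by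
        show H.1.map (a * b).toMonoidHom = (H.1.map b.toMonoidHom).map a.toMonoidHom
        rw [Subgroup.map_map]
        rfl) }
  have hker : ∀ a ∈ φ.ker, ∀ x : Q, a x ∈ Subgroup.zpowers x := fun a ha x => by
    rcases eq_or_ne x 1 with rfl | hx
    · rw [map_one]; exact one_mem _
    have hd : Nat.card (Subgroup.zpowers x) ∣ 3 ^ 2 := by
      have := Subgroup.card_subgroup_dvd_card (Subgroup.zpowers x)
      rwa [h9] at this
    obtain ⟨j, hj2, hj⟩ := (Nat.dvd_prime_pow Nat.prime_three).1 hd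
    interval_cases j
    · rw [Nat.card_zpowers] at hj
      exact absurd (orderOf_eq_one_iff.1 hj) hx
    · have h3 : (Subgroup.zpowers x).map a.toMonoidHom = Subgroup.zpowers x :=
        congrArg Subtype.val (Equiv.congr_fun ha ⟨_, hj.trans (pow_one 3)⟩)
      rw [← h3]
      exact ⟨x, Subgroup.mem_zpowers x, rfl⟩
    · rw [Subgroup.eq_top_of_card_eq (Subgroup.zpowers x) (by simpa [h9] using hj)]
      trivial
  haveI : Group.IsSolvable φ.ker :=
    Group.isSolvable_of_comm fun a b => Subtype.ext (commute_of_power _ _ (hker _ a.2) (hker _ b.2))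
  haveI := CfsgLib.SmallPerm.isSolvable_perm_fin_four
  obtain ⟨e⟩ : Nonempty (SubThree Q ↪ Fin 4) := by
    haveI := Fintype.ofFinite (SubThree Q)
    refine Function.Embedding.nonempty_of_card_le ?_
    rw [Fintype.card_fin, ← Nat.card_eq_fintype_card]
    exact card_subThree_le h9
  haveI : Group.IsSolvable (Equiv.Perm (SubThree Q)) :=
    solvable_of_solvable_injective (f := Equiv.Perm.viaEmbeddingHom e) (Equiv.Perm.viaEmbeddingHom_injective e)
  exact solvable_of_ker_le_range φ.ker.subtype φ (le_of_eq φ.ker.range_subtype.symm)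

end Aut

section Series

variable {G : Type*} [Group G]

/-- A perfect group acts trivially on a small section. -/
theorem IsPerf.commutator_le_of_section [Finite G] {L M N : Subgroup G} (hL : IsPerf L) (hNM : N ≤ M)
    (hLM : L ≤ Subgroup.normalizer (M : Set G)) (hLN : L ≤ Subgroup.normalizer (N : Set G))
    (hMN : M ≤ Subgroup.normalizer (N : Set G)) (hidx : N.relIndex M ∣ 9) : ⁅L, M⁆ ≤ N := by
  haveI : (N.subgroupOf M).Normal := Subgroup.normal_subgroupOf_of_le_normalizer hMN
  let a : L → MulAut M := fun l => M.normalizerMonoidHom ⟨l.1, hLM l.2⟩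
  have ha : ∀ l : L, (N.subgroupOf M).map (a l).toMonoidHom = N.subgroupOf M := fun l => by
    refine Subgroup.eq_of_le_of_card_ge ?_ (Subgroup.card_map_of_injective (a l).injective).ge
    rintro _ ⟨x, hx, rfl⟩
    exact (Subgroup.mem_normalizer_iff.1 (hLN l.2) _).1 hx
  let φ : L →* MulAut (M ⧸ N.subgroupOf M) :=
    { toFun := fun l => QuotientGroup.congr _ _ (a l) (ha l)
      map_one' := MulEquiv.ext fun q => QuotientGroup.induction_on q fun x => by
        show QuotientGroup.mk (a 1 x) = _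
        rw [show a 1 x = x from Subtype.ext (show (1 : G) * x * 1⁻¹ = x by group)]
        rfl
      map_mul' := fun k l => MulEquiv.ext fun q => QuotientGroup.induction_on q fun x => by
        show QuotientGroup.mk (a (k * l) x) = QuotientGroup.mk (a k (a l x))
        exact congrArg _ (Subtype.ext (show (k : G) * l * x * ((k : G) * l)⁻¹ = k * (l * x * (l : G)⁻¹) * (k : G)⁻¹ by group)) }
  haveI : Group.IsSolvable (MulAut (M ⧸ N.subgroupOf M)) := solvable_mulAut_of_dvd_nine hidx
  have hperf : IsPerf (⊤ : Subgroup L) := by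
    refine Subgroup.map_injective L.subtype_injective ?_
    rw [Subgroup.map_commutator, ← MonoidHom.range_eq_map, Subgroup.range_subtype]
    exact hL
  have hk : (⊤ : Subgroup L) ≤ φ.ker :=
    hperf.le_ker φ (K := ⊤) (solvable_of_solvable_injective (Subgroup.subtype_injective _)) le_top
  rw [Subgroup.commutator_le]
  intro l hl x hx
  have h1 : (QuotientGroup.mk (a ⟨l, hl⟩ ⟨x, hx⟩) : M ⧸ N.subgroupOf M) = QuotientGroup.mk ⟨x, hx⟩ :=
    MulEquiv.congr_fun (hk (Subgroup.mem_top (⟨l, hl⟩ : L))) (QuotientGroup.mk ⟨x, hx⟩)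
  have h2 : (l * x * l⁻¹)⁻¹ * x ∈ N := by
    have := QuotientGroup.eq.1 h1
    exact this
  have h3 := (Subgroup.mem_normalizer_iff.1 (hMN hx) _).1 (inv_mem h2)
  rw [commutatorElement_def]
  rw [show x * (((l * x * l⁻¹)⁻¹ * x))⁻¹ * x⁻¹ = (l * x * l⁻¹ * x⁻¹) by group] at h3
  exact h3

/-- The three subgroup step. -/
theorem IsPerf.centralizes_of_step {L N R : Subgroup G} (hL : IsPerf L) (h1 : ⁅L, R⁆ ≤ N) (h2 : ⁅L, N⁆ = ⊥) :
    ⁅L, R⁆ = ⊥ := by
  have hN : ⁅N, L⁆ = ⊥ := by rw [Subgroup.commutator_comm]; exact h2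
  have a1 : ⁅⁅L, R⁆, L⁆ = ⊥ := le_bot_iff.1 ((Subgroup.commutator_mono h1 le_rfl).trans hN.le)
  have a2 : ⁅⁅R, L⁆, L⁆ = ⊥ := by rw [Subgroup.commutator_comm R L]; exact a1
  have := Subgroup.commutator_commutator_eq_bot_of_rotate a1 a2
  rwa [hL] at this

/-- A group of order 81 with centre of order three is not of class two. -/
theorem not_class_two {R : Type*} [Group R] [Finite R] (h81 : Nat.card R = 81) (hZ : Nat.card (Subgroup.center R) = 3)
    (h2 : ∀ a b : R, ⁅a, b⁆ ∈ Subgroup.center R) : False := by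
  haveI : Fact (Nat.Prime 3) := ⟨Nat.prime_three⟩
  obtain ⟨a, b, hab⟩ : ∃ a b : R, a * b ≠ b * a := by
    by_contra hcon
    push Not at hcon
    have : Subgroup.center R = ⊤ := top_unique fun x _ => Subgroup.mem_center_iff.2 fun y => hcon y x
    rw [this, Subgroup.card_top, h81] at hZ
    omega
  have hidx : ∀ c : R, (Subgroup.centralizer ({c} : Set R)).index ∣ 3 := fun c => by
    let f : R →* Subgroup.center R :=
      { toFun := fun x => ⟨⁅c, x⁆, h2 c x⟩
        map_one' := Subtype.ext (commutatorElement_one_right c)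
        map_mul' := fun x y => Subtype.ext (by
          show ⁅c, x * y⁆ = ⁅c, x⁆ * ⁅c, y⁆
          have hc := Subgroup.mem_center_iff.1 (h2 c y) x
          calc ⁅c, x * y⁆ = ⁅c, x⁆ * (x * ⁅c, y⁆ * x⁻¹) := by simp only [commutatorElement_def]; group
            _ = ⁅c, x⁆ * ⁅c, y⁆ := by rw [hc, mul_inv_cancel_right]) }
    have hk : f.ker = Subgroup.centralizer ({c} : Set R) := by
      ext x
      rw [MonoidHom.mem_ker, Subgroup.mem_centralizer_singleton_iff, Subtype.ext_iff]
      show ⁅c, x⁆ = 1 ↔ _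
      rw [commutatorElement_eq_one_iff_mul_comm]
      exact eq_comm
    rw [← hk, Subgroup.index_ker]
    have := Subgroup.card_subgroup_dvd_card f.range
    rwa [hZ] at this
  set A := Subgroup.centralizer ({a} : Set R) with hA
  set B := Subgroup.centralizer ({b} : Set R) with hB
  have haB : a ∉ B := fun h => hab (Subgroup.mem_centralizer_singleton_iff.1 h)
  have hbA : b ∉ A := fun h => hab (Subgroup.mem_centralizer_singleton_iff.1 h).symm
  have hAi : A.index = 3 := by
    rcases (Nat.dvd_prime Nat.prime_three).1 (hidx a) with h | h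
    · exact absurd ((Subgroup.index_eq_one.1 h : A = ⊤) ▸ Subgroup.mem_top b) hbA
    · exact h
  have hcA : Nat.card A = 27 := by
    have := A.card_mul_index
    rw [hAi, h81] at this
    omega
  have hDcard : Nat.card (A ⊓ B : Subgroup R) = 9 := by
    have hd : Nat.card (A ⊓ B : Subgroup R) ∣ 3 ^ 3 := by
      have := Subgroup.card_dvd_of_le (inf_le_left : A ⊓ B ≤ A)
      rw [hcA] at this
      simpa using this
    have hlt : Nat.card (A ⊓ B : Subgroup R) ≠ 27 := fun h => haB <| inf_le_right (a := A) <| by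
      rw [Subgroup.eq_of_le_of_card_ge (inf_le_left : A ⊓ B ≤ A) (hcA.trans h.symm).le]
      exact Subgroup.mem_centralizer_singleton_iff.2 rfl
    have hge : 9 ≤ Nat.card (A ⊓ B : Subgroup R) := by
      have h3 : B.index ≤ 3 := Nat.le_of_dvd (by norm_num) (hidx b)
      have h4 := Subgroup.index_inf_le (H := A) (K := B)
      have h5 := (A ⊓ B).card_mul_index
      nlinarith
    obtain ⟨i, hi, hi'⟩ := (Nat.dvd_prime_pow Nat.prime_three).1 hd
    interval_cases i <;> omega
  have hDcomm : ∀ x ∈ A ⊓ B, ∀ y ∈ A ⊓ B, x * y = y * x := fun x hx y hy =>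
    congrArg Subtype.val (IsPGroup.commutative_of_card_eq_prime_sq (p := 3)
      (G := (A ⊓ B : Subgroup R)) (by rw [hDcard]; norm_num) ⟨x, hx⟩ ⟨y, hy⟩)
  have hmax : ∀ (H K : Subgroup R) (x : R), H ≤ K → x ∈ K → x ∉ H → Nat.card K = 3 * Nat.card H →
      H ⊔ Subgroup.zpowers x = K := fun H K x hHK hxK hxH hc => by
    refine Subgroup.eq_of_le_of_card_ge (sup_le hHK (by rwa [Subgroup.zpowers_le])) ?_
    have hd := Subgroup.card_dvd_of_le (le_sup_left : H ≤ H ⊔ Subgroup.zpowers x)
    obtain ⟨q, hq⟩ := hd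
    have hd2 := Subgroup.card_dvd_of_le (sup_le hHK (by rwa [Subgroup.zpowers_le]) : H ⊔ Subgroup.zpowers x ≤ K)
    rw [hq, hc, mul_comm 3, Nat.mul_dvd_mul_iff_left Nat.card_pos] at hd2
    rcases (Nat.dvd_prime Nat.prime_three).1 hd2 with rfl | rfl
    · exfalso
      apply hxH
      rw [Subgroup.eq_of_le_of_card_ge (le_sup_left : H ≤ H ⊔ Subgroup.zpowers x) (by omega)]
      exact Subgroup.mem_sup_right (Subgroup.mem_zpowers x)
    · omega
  have hgen : ((A ⊓ B) ⊔ Subgroup.zpowers a) ⊔ Subgroup.zpowers b = ⊤ := by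
    rw [hmax (A ⊓ B) A a inf_le_left (Subgroup.mem_centralizer_singleton_iff.2 rfl) (fun h => haB h.2) (by omega)]
    exact hmax A ⊤ b le_top trivial hbA (by rw [Subgroup.card_top]; omega)
  have hDZ : A ⊓ B ≤ Subgroup.center R := fun x hx => by
    rw [Subgroup.mem_center_iff]
    intro y
    have hle : ⊤ ≤ Subgroup.centralizer ({x} : Set R) := by
      rw [← hgen, sup_le_iff, sup_le_iff, Subgroup.zpowers_le, Subgroup.zpowers_le]
      exact ⟨⟨fun z hz => Subgroup.mem_centralizer_singleton_iff.2 (hDcomm z hz x hx),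
        Subgroup.mem_centralizer_singleton_iff.2 (Subgroup.mem_centralizer_singleton_iff.1 hx.1).symm⟩,
        Subgroup.mem_centralizer_singleton_iff.2 (Subgroup.mem_centralizer_singleton_iff.1 hx.2).symm⟩
    exact Subgroup.mem_centralizer_singleton_iff.1 (hle (Subgroup.mem_top y))
  have := Subgroup.card_le_of_le hDZ
  omega

/-- A perfect group normalizing a group of order dividing 81 with cyclic centre centralizes it. -/
theorem IsPerf.centralizes_three_group [Finite G] {L R : Subgroup G} (hL : IsPerf L) (hR : Nat.card R ∣ 81)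
    (hLR : L ≤ Subgroup.normalizer (R : Set G)) (hcyc : IsCyclic (R ⊓ Subgroup.centralizer (R : Set G) : Subgroup G)) :
    ⁅L, R⁆ = ⊥ := by
  haveI : Fact (Nat.Prime 3) := ⟨Nat.prime_three⟩
  set Z := R ⊓ Subgroup.centralizer (R : Set G) with hZ
  have hLZ : L ≤ Subgroup.normalizer (Z : Set G) := fun l hl => by
    have h := Subgroup.mem_normalizer_iff.1 (hLR hl)
    have hfix : ∀ m : G, (∀ x, x ∈ R ↔ m * x * m⁻¹ ∈ R) → ∀ z ∈ Z, m * z * m⁻¹ ∈ Z := fun m hm z hz => by
      refine ⟨(hm z).1 hz.1, Subgroup.mem_centralizer_iff.2 fun x hx => ?_⟩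
      have h1 : m⁻¹ * x * m ∈ R := by
        rw [hm, show m * (m⁻¹ * x * m) * m⁻¹ = x by group]
        exact hx
      have h2 := Subgroup.mem_centralizer_iff.1 hz.2 _ h1
      calc x * (m * z * m⁻¹) = m * (m⁻¹ * x * m * z) * m⁻¹ := by group
        _ = m * (z * (m⁻¹ * x * m)) * m⁻¹ := by rw [h2]
        _ = _ := by group
    rw [Subgroup.mem_normalizer_iff]
    refine fun z => ⟨hfix l h z, fun hz => ?_⟩
    have := hfix l⁻¹ (Subgroup.mem_normalizer_iff.1 (inv_mem (hLR hl))) _ hz
    rwa [show l⁻¹ * (l * z * l⁻¹) * l⁻¹⁻¹ = z by group] at this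
  have hLZ1 : ⁅L, Z⁆ = ⊥ := by
    haveI := hcyc
    rw [eq_bot_iff, Subgroup.commutator_le]
    intro l hl z hz
    rw [Subgroup.mem_bot, commutatorElement_eq_one_iff_mul_comm]
    exact hL.commute_of_cyclic hLZ hl hz
  have hZeq : Z.subgroupOf R = Subgroup.center R := by
    ext x
    rw [Subgroup.mem_subgroupOf, Subgroup.mem_inf, Subgroup.mem_center_iff]
    exact ⟨fun h y => Subtype.ext (Subgroup.mem_centralizer_iff.1 h.2 y.1 y.2),
      fun h => ⟨x.2, Subgroup.mem_centralizer_iff.2 fun y hy => congrArg Subtype.val (h ⟨y, hy⟩)⟩⟩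
  have hRZ : R ≤ Subgroup.normalizer (Z : Set G) := fun r hr => by
    rw [Subgroup.mem_normalizer_iff]
    intro z
    constructor
    · intro hz
      rwa [Subgroup.mem_centralizer_iff.1 hz.2 r hr, mul_inv_cancel_right]
    · intro hz
      have h1 := Subgroup.mem_centralizer_iff.1 hz.2 r hr
      have h2 : r * z * r⁻¹ = z := by
        calc r * z * r⁻¹ = r⁻¹ * (r * (r * z * r⁻¹)) := by group
          _ = r⁻¹ * (r * z * r⁻¹ * r) := by rw [h1]
          _ = z := by group
      rwa [h2] at hz
  obtain ⟨k, hk4, hk⟩ := (Nat.dvd_prime_pow Nat.prime_three).1 (show Nat.card R ∣ 3 ^ 4 by simpa using hR)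
  by_cases hsmall : (Subgroup.center R).index ∣ 9
  · refine hL.centralizes_of_step (hL.commutator_le_of_section inf_le_left hLR hLZ hRZ ?_) hLZ1
    show (Z.subgroupOf R).index ∣ 9
    rwa [hZeq]
  -- the centre has order three and index 27
  have hmul := (Subgroup.center R).card_mul_index
  rw [hk] at hmul
  obtain ⟨i, hi, hi'⟩ := (Nat.dvd_prime_pow Nat.prime_three).1
    (show (Subgroup.center R).index ∣ 3 ^ k from Dvd.intro_left _ hmul)
  have hne : Subgroup.center R ≠ ⊥ := by
    haveI : Nontrivial R := by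
      by_contra hcon
      rw [not_nontrivial_iff_subsingleton] at hcon
      apply hsmall
      rw [Subgroup.index_eq_one.2 (Subsingleton.elim _ _)]
      norm_num
    exact (Subgroup.nontrivial_iff_ne_bot _).1 ((IsPGroup.of_card hk).center_nontrivial)
  have hi3 : i = 3 ∧ k = 4 := by
    have h1 : 3 ≤ i := by
      by_contra hlt
      apply hsmall
      rw [hi', show (9 : ℕ) = 3 ^ 2 by norm_num]
      exact Nat.pow_dvd_pow 3 (by omega)
    have h2 : i < k := by
      rcases Nat.lt_or_ge i k with h | h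
      · exact h
      · exfalso
        apply hne
        rw [show i = k by omega] at hi'
        rw [hi'] at hmul
        exact Subgroup.card_eq_one.1 ((mul_eq_right₀ (by positivity)).1 hmul)
    omega
  obtain ⟨rfl, rfl⟩ := hi3
  have hZ3 : Nat.card (Subgroup.center R) = 3 := by
    rw [hi'] at hmul
    omega
  let T : Subgroup R := (Subgroup.center (R ⧸ Subgroup.center R)).comap (QuotientGroup.mk' _)
  have hT : ∀ x : R, x ∈ T ↔ ∀ y : R, ⁅x, y⁆ ∈ Subgroup.center R := fun x => by
    rw [Subgroup.mem_comap, Subgroup.mem_center_iff]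
    constructor
    · intro h y
      rw [← QuotientGroup.eq_one_iff, ← QuotientGroup.mk'_apply, map_commutatorElement,
        commutatorElement_eq_one_iff_mul_comm]
      exact (h _).symm
    · intro h q
      obtain ⟨y, rfl⟩ := QuotientGroup.mk'_surjective _ q
      have := h y
      rw [← QuotientGroup.eq_one_iff, ← QuotientGroup.mk'_apply, map_commutatorElement,
        commutatorElement_eq_one_iff_mul_comm] at this
      exact this.symm
  have hTne : T ≠ ⊤ := fun h => not_class_two (by simpa using hk) hZ3 fun a b => (hT a).1 (h ▸ trivial) b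
  have hZT : Subgroup.center R ≤ T := fun x hx => (hT x).2 fun y => by
    rw [commutatorElement_eq_one_iff_mul_comm.2 (Subgroup.mem_center_iff.1 hx y).symm]
    exact one_mem _
  have hTdvd : T.index ∣ 9 ∧ (Subgroup.center R).relIndex T ∣ 9 := by
    haveI : Nontrivial (R ⧸ Subgroup.center R) := by
      rw [← Finite.one_lt_card_iff_nontrivial, ← Subgroup.index_eq_card, hi']
      norm_num
    haveI := ((IsPGroup.of_card hk).to_quotient (Subgroup.center R)).center_nontrivial
    have hTgt : Subgroup.center R ≠ T := fun h => by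
      have h1 : (Subgroup.center (R ⧸ Subgroup.center R)) = ⊥ := by
        have := congrArg (Subgroup.map (QuotientGroup.mk' (Subgroup.center R))) h.symm
        rwa [Subgroup.map_comap_eq_self_of_surjective (QuotientGroup.mk'_surjective _), 
          (Subgroup.map_eq_bot_iff _).2 (le_of_eq (QuotientGroup.ker_mk' _).symm)] at this
      exact (Subgroup.nontrivial_iff_ne_bot _).1 inferInstance h1
    have hm := Subgroup.relIndex_mul_index hZT
    rw [hi'] at hm
    obtain ⟨j, hj, hj'⟩ := (Nat.dvd_prime_pow Nat.prime_three).1 (show T.index ∣ 3 ^ 3 from Dvd.intro_left _ hm)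
    interval_cases j
    · exact absurd (Subgroup.index_eq_one.1 hj') hTne
    · rw [hj'] at hm ⊢; exact ⟨by norm_num, by rw [show (Subgroup.center R).relIndex T = 9 by omega]⟩
    · rw [hj'] at hm ⊢; exact ⟨by norm_num, by rw [show (Subgroup.center R).relIndex T = 3 by omega]; norm_num⟩
    · rw [hj'] at hm
      exact absurd (le_antisymm hZT (Subgroup.relIndex_eq_one.1 (by omega))) hTgt
  set Z2 := T.map R.subtype with hZ2
  have hZ2R : Z2 ≤ R := Subgroup.map_subtype_le T
  have hZZ2 : Z ≤ Z2 := fun z hz => ⟨⟨z, hz.1⟩, hZT (hZeq ▸ (hz : (⟨z, hz.1⟩ : R) ∈ Z.subgroupOf R)), rfl⟩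
  have hZmem : ∀ x y : R, ⁅x, y⁆ ∈ Subgroup.center R ↔ ⁅(x : G), (y : G)⁆ ∈ Z := fun x y => by
    rw [← hZeq, Subgroup.mem_subgroupOf, ← Subgroup.subtype_apply, map_commutatorElement]
    rfl
  have hinv : ∀ m : G, m ∈ Subgroup.normalizer (R : Set G) → m ∈ Subgroup.normalizer (Z : Set G) →
      ∀ z ∈ Z2, m * z * m⁻¹ ∈ Z2 := by
    rintro m hmR hmZ _ ⟨x, hx, rfl⟩
    refine ⟨⟨m * x * m⁻¹, (Subgroup.mem_normalizer_iff.1 hmR x).1 x.2⟩, (hT _).2 fun y => ?_, rfl⟩
    rw [hZmem]
    have hy : m⁻¹ * y * m ∈ R := by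
      rw [Subgroup.mem_normalizer_iff.1 hmR, show m * (m⁻¹ * y * m) * m⁻¹ = y by group]
      exact y.2
    have h1 := (Subgroup.mem_normalizer_iff.1 hmZ _).1 ((hZmem x ⟨_, hy⟩).1 ((hT x).1 hx ⟨_, hy⟩))
    convert h1 using 1
    simp only [commutatorElement_def]
    group
  have hnorm : ∀ m : G, m ∈ Subgroup.normalizer (R : Set G) → m ∈ Subgroup.normalizer (Z : Set G) →
      m ∈ Subgroup.normalizer (Z2 : Set G) := fun m h1 h2 => by
    rw [Subgroup.mem_normalizer_iff]
    refine fun z => ⟨hinv m h1 h2 z, fun hz => ?_⟩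
    have := hinv m⁻¹ (inv_mem h1) (inv_mem h2) _ hz
    rwa [show m⁻¹ * (m * z * m⁻¹) * m⁻¹⁻¹ = z by group] at this
  have hLZ2 : L ≤ Subgroup.normalizer (Z2 : Set G) := fun l hl => hnorm l (hLR hl) (hLZ hl)
  have h1 : ⁅L, Z2⁆ = ⊥ := by
    refine hL.centralizes_of_step (hL.commutator_le_of_section hZZ2 hLZ2 hLZ (hZ2R.trans hRZ) ?_) hLZ1
    have e : Z = (Subgroup.center R).map R.subtype := by
      rw [← hZeq, Subgroup.map_subgroupOf_eq_of_le inf_le_left]
    rw [e, hZ2, Subgroup.relIndex_map_map_of_injective _ _ R.subtype_injective]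
    exact hTdvd.2
  refine hL.centralizes_of_step (hL.commutator_le_of_section hZ2R hLR hLZ2
    (fun r hr => hnorm r (Subgroup.le_normalizer hr) (hRZ hr)) ?_) h1
  show ((T.map R.subtype).comap R.subtype).index ∣ 9
  rw [Subgroup.comap_map_eq_self_of_injective R.subtype_injective]
  exact hTdvd.1

end Series

section Main

variable {V : Type u} [CommGroup V] [Finite V]

/-- Orbit lengths divisible by `d` bound the size of invariant subgroups. -/
theorem dvd_card_sub_one (P : Subgroup (MulAut V)) (W : Subgroup V) (hW : ∀ p ∈ P, ∀ w ∈ W, p w ∈ W) (d : ℕ)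
    (hd : ∀ v ∈ W, v ≠ 1 → d ∣ (MulAction.stabilizer P v).index) : d ∣ Nat.card W - 1 := by
  classical
  let α := {v : V // v ∈ W ∧ v ≠ 1}
  letI : MulAction P α :=
    { smul := fun p v => ⟨(p : MulAut V) v.1, hW p.1 p.2 _ v.2.1, fun e => v.2.2
        ((p : MulAut V).injective (e.trans (map_one (p : MulAut V)).symm))⟩
      one_smul := fun v => Subtype.ext rfl
      mul_smul := fun p q v => Subtype.ext rfl }
  have hcard : Nat.card α = Nat.card W - 1 := by
    haveI := Fintype.ofFinite W
    let e : α ≃ {w : W // w ≠ 1} :=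
      { toFun := fun v => ⟨⟨v.1, v.2.1⟩, fun h => v.2.2 (congrArg Subtype.val h)⟩
        invFun := fun w => ⟨w.1.1, w.1.2, fun h => w.2 (Subtype.ext h)⟩
        left_inv := fun _ => rfl
        right_inv := fun _ => rfl }
    rw [Nat.card_congr e, Nat.card_eq_fintype_card, Fintype.card_subtype_compl, Fintype.card_subtype_eq,
      ← Nat.card_eq_fintype_card]
  rw [← hcard, Nat.card_congr (MulAction.selfEquivSigmaOrbits P α)]
  haveI := Fintype.ofFinite (MulAction.orbitRel.Quotient P α)
  rw [Nat.card_sigma]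
  refine Finset.dvd_sum fun ω _ => ?_
  rw [Nat.card_coe_set_eq, ← MulAction.index_stabilizer]
  have hst : MulAction.stabilizer P ω.out = MulAction.stabilizer P (ω.out : α).1 := by
    refine Subgroup.ext fun p => ?_
    exact ⟨fun h => congrArg Subtype.val h, fun h => Subtype.ext h⟩
  rw [hst]
  exact hd _ ω.out.2.1 ω.out.2.2

theorem card_eq_two_pow (h2 : ∀ v : V, v * v = 1) : ∃ m, Nat.card V = 2 ^ m := by
  haveI : Fact (Nat.Prime 2) := ⟨Nat.prime_two⟩
  exact IsPGroup.iff_card.1 fun v => ⟨1, by rw [pow_one, pow_two]; exact h2 v⟩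

/-- Orbit lengths of a Sylow subgroup of a transitive group. -/
theorem dvd_index_stabilizer {r e : ℕ} (hr : r.Prime) {X Q : Subgroup (MulAut V)} (hQX : Q ≤ X)
    (hQ : IsPGroup r Q) (hidx : ¬ r ∣ Q.relIndex X) (v : V) (he : r ^ e ∣ (MulAction.stabilizer X v).index) :
    r ^ e ∣ (MulAction.stabilizer Q v).index := by
  haveI : Fact r.Prime := ⟨hr⟩
  obtain ⟨a, ha⟩ := IsPGroup.iff_card.1 hQ
  obtain ⟨b, hb⟩ := IsPGroup.iff_card.1 (hQ.to_subgroup (MulAction.stabilizer Q v))
  have h1 := (MulAction.stabilizer Q v).card_mul_index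
  rw [ha, hb] at h1
  have hab : b ≤ a := (Nat.pow_dvd_pow_iff_le_right hr.one_lt).1 (Dvd.intro _ h1)
  have hsub : r ^ b ∣ Nat.card (MulAction.stabilizer X v) := by
    rw [← hb]
    refine Subgroup.card_dvd_of_injective
      ({ toFun := fun q => ⟨⟨q.1.1, hQX q.1.2⟩, q.2⟩, map_one' := rfl, map_mul' := fun _ _ => rfl } :
        MulAction.stabilizer Q v →* MulAction.stabilizer X v) fun p q h => ?_
    exact Subtype.ext (Subtype.ext (congrArg (fun x => ((x.1 : X) : MulAut V)) h))
  have h2 : r ^ (b + e) ∣ Nat.card Q * Q.relIndex X := by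
    rw [pow_add, Subgroup.relIndex, ← Nat.card_congr (Subgroup.subgroupOfEquivOfLe hQX).toEquiv,
      (Q.subgroupOf X).card_mul_index, ← (MulAction.stabilizer X v).card_mul_index]
    exact Nat.mul_dvd_mul hsub he
  rw [ha] at h2
  have h3 : b + e ≤ a := (Nat.pow_dvd_pow_iff_le_right hr.one_lt).1
    ((Nat.Coprime.pow_left _ ((Nat.Prime.coprime_iff_not_dvd hr).2 hidx)).dvd_of_dvd_mul_right h2)
  have h4 : (MulAction.stabilizer Q v).index = r ^ (a - b) := by
    refine Nat.eq_of_mul_eq_mul_left (pow_pos hr.pos b) ?_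
    rw [h1, ← pow_add, Nat.add_sub_cancel' hab]
  rw [h4]
  exact Nat.pow_dvd_pow r (by omega)

/-- A perfect group normalizing a transitive group of automorphisms of an elementary abelian 2-group
lies inside it. -/
theorem perfect_le_of_transitive (h2 : ∀ v : V, v * v = 1) (X L : Subgroup (MulAut V))
    (htrans : ∀ v w : V, v ≠ 1 → w ≠ 1 → ∃ x : X, (x : MulAut V) v = w) (hL : IsPerf L)
    (hn : L ≤ Subgroup.normalizer (X : Set (MulAut V))) : L ≤ X := by
  classical
  haveI : Finite (MulAut V) := Finite.of_injective _ MulEquiv.toEquiv_injective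
  obtain ⟨m, hm⟩ := card_eq_two_pow h2
  haveI : Fact (Nat.Prime 2) := ⟨Nat.prime_two⟩
  rcases le_or_gt m 1 with hm1 | hm1
  · intro l _
    have : l = 1 := MulEquiv.ext fun v => by
      have hcard : Nat.card V ≤ 2 := by
        rw [hm]
        exact (Nat.pow_le_pow_right (by norm_num) hm1).trans le_rfl
      rcases eq_or_ne v 1 with rfl | hv
      · rw [map_one, map_one]
      show l v = v
      by_contra hne
      haveI := Fintype.ofFinite V
      have h3 : ({1, v, l v} : Finset V).card = 3 := by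
        rw [Finset.card_eq_three]
        exact ⟨1, v, l v, hv.symm, fun e => hv (l.injective (by rw [map_one, ← e])), Ne.symm hne, rfl⟩
      have := Finset.card_le_univ ({1, v, l v} : Finset V)
      rw [← Nat.card_eq_fintype_card, h3] at this
      omega
    rw [this]
    exact one_mem X
  haveI : Nontrivial V := by
    rw [← Finite.one_lt_card_iff_nontrivial, hm]
    exact Nat.one_lt_two_pow (by omega)
  have hXidx : ∀ v : V, v ≠ 1 → (MulAction.stabilizer X v).index = 2 ^ m - 1 := fun v hv => by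
    rw [MulAction.index_stabilizer, show MulAction.orbit X v = {w : V | w ≠ 1} from ?_]
    · haveI := Fintype.ofFinite V
      rw [← Nat.card_coe_set_eq]
      show Nat.card {w : V // w ≠ 1} = _
      rw [Nat.card_eq_fintype_card, Fintype.card_subtype_compl, Fintype.card_subtype_eq, ← Nat.card_eq_fintype_card, hm]
    · ext w
      constructor
      · rintro ⟨x, rfl⟩ e
        exact hv ((x : MulAut V).injective (e.trans (map_one _).symm))
      · exact fun hw => htrans v w hv hw
  obtain ⟨r, e, hr, he, hrm, hprim, h6⟩ : ∃ r e : ℕ, r.Prime ∧ 1 ≤ e ∧ r ^ e ∣ 2 ^ m - 1 ∧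
      (∀ j, 0 < j → j < m → ¬ r ^ e ∣ 2 ^ j - 1) ∧ (m = 6 → r = 3) ∧ (m ≠ 6 → e = 1) := by
    by_cases h6 : m = 6
    · subst h6
      refine ⟨3, 2, Nat.prime_three, by norm_num, by norm_num, fun j hj hj6 => ?_, fun _ => rfl, fun h => absurd rfl h⟩
      interval_cases j <;> norm_num
    · obtain ⟨r, hr, hrd, hrp⟩ := Cfsg.Agent.S2904.result 2 m one_lt_two hm1 (fun h => h6 h.2) (by
        rintro ⟨-, k, hk⟩
        have := Nat.pow_mod 2 k 2
        rcases Nat.eq_zero_or_pos k with rfl | hk0
        · norm_num at hk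
        · rw [Nat.mod_self, zero_pow (by omega)] at this
          omega)
      exact ⟨r, 1, hr, le_rfl, by rwa [pow_one], fun j hj hjm => by rw [pow_one]; exact hrp j hj hjm,
        fun h => absurd h h6, fun _ => rfl⟩
  haveI : Fact r.Prime := ⟨hr⟩
  obtain ⟨P⟩ : Nonempty (Sylow r X) := inferInstance
  set Q := (P : Subgroup X).map X.subtype with hQdef
  have hQX : Q ≤ X := Subgroup.map_subtype_le _
  have hQp : IsPGroup r Q := P.2.map _
  have hidx : ¬ r ∣ Q.relIndex X := by
    show ¬ r ∣ (((P : Subgroup X).map X.subtype).comap X.subtype).index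
    rw [Subgroup.comap_map_eq_self_of_injective X.subtype_injective]
    exact P.not_dvd_index
  have hQorb : ∀ v : V, v ≠ 1 → r ^ e ∣ (MulAction.stabilizer Q v).index := fun v hv =>
    dvd_index_stabilizer hr hQX hQp hidx v (by rw [hXidx v hv]; exact hrm)
  have hirr_of : ∀ d, (∀ j, 0 < j → j < m → ¬ d ∣ 2 ^ j - 1) → ∀ P' : Subgroup (MulAut V),
      (∀ v : V, v ≠ 1 → d ∣ (MulAction.stabilizer P' v).index) → Irr (P' : Set (MulAut V)) := by
    intro d hd P' horb W hW
    obtain ⟨j, hj, hWc⟩ := (Nat.dvd_prime_pow Nat.prime_two).1 (hm ▸ Subgroup.card_subgroup_dvd_card W)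
    have hdd := dvd_card_sub_one P' W hW d fun v _ hv => horb v hv
    rw [hWc] at hdd
    rcases Nat.eq_zero_or_pos j with rfl | hj0
    · exact Or.inl (Subgroup.card_eq_one.1 (by simpa using hWc))
    rcases lt_or_eq_of_le hj with hjm | rfl
    · exact absurd hdd (hd j hj0 hjm)
    · exact Or.inr (Subgroup.eq_top_of_card_eq W (hWc.trans hm.symm))
  have hQirr : Irr (Q : Set (MulAut V)) := hirr_of _ hprim Q hQorb
  have hcycC : ∀ U : Subgroup (MulAut V), U ≤ Subgroup.centralizer (Q : Set (MulAut V)) → IsCyclic U := fun U hU =>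
    isCyclic_of_irr hQirr U fun f hf s hs => (Subgroup.mem_centralizer_iff.1 (hU hf) s hs).symm
  obtain ⟨L', hL'le, hL', hLL'⟩ := exists_perf_le_sup
    (T := Subgroup.normalizer (Q : Set (MulAut V)) ⊓ Subgroup.normalizer (X : Set (MulAut V))) inf_le_right hL
    (le_normalizer_sup_of_sylow hn hQX hQp hidx)
  suffices L' = ⊥ by rw [this, bot_sup_eq] at hLL'; exact hLL'
  have hL'Q : L' ≤ Subgroup.normalizer (Q : Set (MulAut V)) := hL'le.trans inf_le_left
  have hdone : ⁅L', Q⁆ = ⊥ → L' = ⊥ := fun h => by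
    refine hL'.eq_bot_of_comm fun a ha b hb => commute_of_irr hQirr ?_ ?_ <;>
    · intro s hs
      exact commutatorElement_eq_one_iff_mul_comm.1 (Subgroup.mem_bot.1
        (h ▸ Subgroup.commutator_mem_commutator (by assumption) hs))
  apply hdone
  by_cases hQc : IsCyclic Q
  · haveI := hQc
    rw [eq_bot_iff, Subgroup.commutator_le]
    intro l hl q hq
    rw [Subgroup.mem_bot, commutatorElement_eq_one_iff_mul_comm]
    exact hL'.commute_of_cyclic hL'Q hl hq
  by_cases hm6 : m = 6
  · obtain rfl := h6.1 hm6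
    subst hm6
    refine hL'.centralizes_three_group ?_ hL'Q (hcycC _ inf_le_right)
    have hd : Nat.card Q ∣ 20158709760 := by
      have h := Subgroup.card_subgroup_dvd_card Q
      rwa [CfsgLib.FourMove.card_mulAut (fun w => (pow_two w).trans (h2 w)) hm,
        show (∏ i : Fin 6, (2 ^ 6 - 2 ^ (i : ℕ))) = 20158709760 by simp [Fin.prod_univ_succ]] at h
    obtain ⟨a, ha⟩ := IsPGroup.iff_card.1 hQp
    rw [ha] at hd ⊢
    rcases Nat.lt_or_ge 4 a with h5 | h5
    · exact absurd ((Nat.pow_dvd_pow 3 h5).trans hd) (by norm_num)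
    · exact (Nat.pow_dvd_pow 3 h5).trans (by norm_num)
  -- primitive prime: a central element is irreducible, so `Q` is cyclic
  exfalso
  apply hQc
  obtain rfl := h6.2 hm6
  rw [pow_one] at *
  haveI : Nontrivial Q := not_subsingleton_iff_nontrivial.1 fun h => hQc (isCyclic_of_subsingleton)
  haveI := hQp.center_nontrivial
  obtain ⟨z, hz⟩ := exists_prime_orderOf_dvd_card' (G := Subgroup.center Q) r (by
    obtain ⟨n, hn, hc⟩ := (hQp.to_subgroup (Subgroup.center Q)).nontrivial_iff_card.1 inferInstance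
    rw [hc]
    exact dvd_pow_self r hn.ne')
  set ζ : MulAut V := ((z : Q) : MulAut V) with hζ
  have hζord : orderOf ζ = r := by rw [hζ, Subgroup.orderOf_coe, Subgroup.orderOf_coe, hz]
  have hζcomm : ∀ q ∈ Q, q * ζ = ζ * q := fun q hq =>
    congrArg Subtype.val (Subgroup.mem_center_iff.1 z.2 ⟨q, hq⟩)
  have hfix : ∀ v : V, ζ v = v → v = 1 := by
    let F : Subgroup V :=
      { carrier := {v | ζ v = v}
        one_mem' := map_one ζ
        mul_mem' := fun {a b} ha hb => by show ζ (a * b) = a * b; rw [map_mul, ha, hb]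
        inv_mem' := fun {a} ha => by show ζ a⁻¹ = a⁻¹; rw [map_inv, ha] }
    have hF : ∀ q ∈ Q, ∀ w ∈ F, q w ∈ F := fun q hq w hw => by
      show ζ (q w) = q w
      rw [← MulAut.mul_apply, ← hζcomm q hq, MulAut.mul_apply, hw]
    rcases hQirr F hF with h | h
    · exact fun v hv => Subgroup.mem_bot.1 (h ▸ hv)
    · exfalso
      have h1 : ζ = 1 := MulEquiv.ext fun v => show v ∈ F by rw [h]; trivial
      rw [h1, orderOf_one] at hζord
      exact hr.one_lt.ne hζord
  have hzirr : Irr (Subgroup.zpowers ζ : Set (MulAut V)) := hirr_of r hprim _ fun v hv => by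
    have hne : (MulAction.stabilizer (Subgroup.zpowers ζ) v).index ≠ 1 := fun h => hv (hfix v (by
      rw [Subgroup.index_eq_one] at h
      exact (h ▸ Subgroup.mem_top (⟨ζ, Subgroup.mem_zpowers ζ⟩ : Subgroup.zpowers ζ) :
        (⟨ζ, Subgroup.mem_zpowers ζ⟩ : Subgroup.zpowers ζ) ∈ MulAction.stabilizer (Subgroup.zpowers ζ) v)))
    have hd := (MulAction.stabilizer (Subgroup.zpowers ζ) v).index_dvd_card
    rw [Nat.card_zpowers, hζord] at hd
    rw [((Nat.dvd_prime hr).1 hd).resolve_left hne]
  refine isCyclic_of_irr hzirr Q fun f hf s hs => ?_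
  obtain ⟨k, rfl⟩ := Subgroup.mem_zpowers_iff.1 hs
  exact (Commute.zpow_right (show Commute f ζ from hζcomm f hf) k).eq

end Main

end CfsgLib.OutSolv
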