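import Cfsg.Agent.Lib.OutSolv.Basic
import Cfsg.Agent.Lib.OddOrder.Solvable

/-!
Anisotropic quadratic maps between finite elementary abelian two-groups and the automorphism
groups preserving them.
-/

set_option autoImplicit false
set_option linter.unusedSectionVars false

namespace CfsgLib.OutSolv

open scoped commutatorElement

/-! ### Functions of bounded degree on an elementary abelian two-group -/

section Deg

variable {W : Type*} [CommGroup W]

/-- `f` has degree at most `d`: all differences of order `d + 1` vanish. -/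
def Deg : ℕ → (W → ZMod 2) → Prop
  | 0, f => ∀ x y, f x = f y
  | d + 1, f => ∀ h, Deg d fun x => f (x * h) + f x

theorem zmod_two_self : ∀ a : ZMod 2, a + a = 0 := by decide

theorem Deg.const (c : ZMod 2) : ∀ d, Deg d fun _ : W => c
  | 0 => fun _ _ => rfl
  | d + 1 => fun h => by
    show Deg d fun _ : W => c + c
    exact Deg.const (c + c) d

theorem Deg.succ : ∀ {d} {f : W → ZMod 2}, Deg d f → Deg (d + 1) f
  | 0, f, hf => fun h x y => by
    show f (x * h) + f x = f (y * h) + f y
    rw [hf (x * h) (y * h), hf x y]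
  | d + 1, f, hf => fun h => (hf h).succ

theorem Deg.mono {d e : ℕ} {f : W → ZMod 2} (hf : Deg d f) (h : d ≤ e) : Deg e f := by
  induction h with
  | refl => exact hf
  | step _ ih => exact ih.succ

theorem Deg.shift : ∀ {d} {f : W → ZMod 2}, Deg d f → ∀ g, Deg d fun x => f (x * g)
  | 0, f, hf, g => fun x y => hf _ _
  | d + 1, f, hf, g => fun h => by
    have := (hf h).shift g
    simpa only [mul_right_comm _ g h] using this

theorem Deg.add : ∀ {d} {f g : W → ZMod 2}, Deg d f → Deg d g → Deg d fun x => f x + g x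
  | 0, f, g, hf, hg => fun x y => by
    show f x + g x = f y + g y
    rw [hf x y, hg x y]
  | d + 1, f, g, hf, hg => fun h => by
    have := (hf h).add (hg h)
    simpa only [add_add_add_comm] using this

theorem Deg.const_mul : ∀ {d} {f : W → ZMod 2}, Deg d f → ∀ c, Deg d fun x => c * f x
  | 0, f, hf, c => fun x y => by
    show c * f x = c * f y
    rw [hf x y]
  | d + 1, f, hf, c => fun h => by
    have := (hf h).const_mul c
    simpa only [mul_add] using this

theorem Deg.mul : ∀ {s a b : ℕ} {f g : W → ZMod 2}, a + b = s → Deg a f → Deg b g → Deg s fun x => f x * g x := by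
  intro s
  induction s with
  | zero =>
    intro a b f g he hf hg
    obtain ⟨rfl, rfl⟩ : a = 0 ∧ b = 0 := by omega
    intro x y
    show f x * g x = f y * g y
    rw [hf x y, hg x y]
  | succ s ih =>
    intro a b f g he hf hg
    rcases Nat.eq_zero_or_pos a with rfl | ha
    · obtain rfl : b = s + 1 := by omega
      rw [show (fun x => f x * g x) = fun x => f 1 * g x from funext fun x => by rw [hf x 1]]
      exact hg.const_mul _
    rcases Nat.eq_zero_or_pos b with rfl | hb
    · obtain rfl : a = s + 1 := by omega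
      rw [show (fun x => f x * g x) = fun x => g 1 * f x from funext fun x => by rw [hg x 1, mul_comm]]
      exact hf.const_mul _
    obtain ⟨a, rfl⟩ : ∃ a', a = a' + 1 := ⟨a - 1, by omega⟩
    obtain ⟨b, rfl⟩ : ∃ b', b = b' + 1 := ⟨b - 1, by omega⟩
    intro h
    have h1 := ih (show a + (b + 1) = s by omega) (hf h) (hg.shift h)
    have h2 := ih (show a + 1 + b = s by omega) hf (hg h)
    refine (show (fun x => f (x * h) * g (x * h) + f x * g x) =
      fun x => (f (x * h) + f x) * g (x * h) + f x * (g (x * h) + g x) from funext fun x => ?_) ▸ h1.add h2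
    linear_combination (-1 : ZMod 2) * zmod_two_self (f x * g (x * h))

theorem Deg.restrict {K : Subgroup W} : ∀ {d} {f : W → ZMod 2}, Deg d f → Deg d fun x : K => f x
  | 0, f, hf => fun x y => hf _ _
  | d + 1, f, hf => fun h => (hf (h : W)).restrict

theorem exists_index_two (hW : ∀ w : W, w * w = 1) [Finite W] {e : W} (he : e ≠ 1) :
    ∃ K : Subgroup W, e ∉ K ∧ (∀ x : W, x ∈ K ∨ x * e ∈ K) := by
  haveI : Finite (Subgroup W) := Finite.of_injective (fun K => (K : Set W)) SetLike.coe_injective
  obtain ⟨K, hK, hmax⟩ := (Set.toFinite {K : Subgroup W | e ∉ K}).exists_maximal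
    ⟨⊥, by simpa [Subgroup.mem_bot] using he⟩
  refine ⟨K, hK, fun x => ?_⟩
  by_contra hx
  push Not at hx
  have hsq : ∀ y : W, y⁻¹ = y := fun y => inv_eq_of_mul_eq_one_left (hW y)
  let K' : Subgroup W :=
    { carrier := {y | y ∈ K ∨ y * x ∈ K}
      one_mem' := Or.inl K.one_mem
      mul_mem' := fun {a b} ha hb => by
        rcases ha with ha | ha <;> rcases hb with hb | hb
        · exact Or.inl (mul_mem ha hb)
        · exact Or.inr (by rw [mul_assoc]; exact mul_mem ha hb)
        · exact Or.inr (by rw [mul_right_comm]; exact mul_mem ha hb)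
        · refine Or.inl ?_
          have h := mul_mem ha hb
          rwa [show a * x * (b * x) = a * b * (x * x) by ac_rfl, hW, mul_one] at h
      inv_mem' := fun {a} ha => by rwa [Set.mem_setOf_eq, hsq] }
  have hKK' : K ≤ K' := fun y hy => Or.inl hy
  have heK' : e ∉ K' := fun h => h.elim hK fun h => hx.2 (by rwa [mul_comm])
  exact hx.1 (hmax heK' hKK' (Or.inr (by rw [hW]; exact K.one_mem)))

end Deg

theorem sum_eq_zero_of_deg : ∀ (N : ℕ) {W : Type*} [CommGroup W] [Fintype W], Fintype.card W = N →
    (∀ w : W, w * w = 1) → ∀ (d : ℕ) (f : W → ZMod 2), Deg d f → 2 ^ d < Fintype.card W → ∑ x, f x = 0 := by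
  intro N
  induction N using Nat.strong_induction_on with
  | _ N ih =>
    intro W _ _ hN hW d f hf hd
    classical
    have h1 : 1 < Fintype.card W := lt_of_le_of_lt Nat.one_le_two_pow hd
    obtain ⟨e, he⟩ := Fintype.exists_ne_of_one_lt_card h1 (1 : W)
    obtain ⟨K, heK, hK⟩ := exists_index_two hW he
    have hbij : Function.Bijective (fun p : K × Bool => if p.2 then (p.1 : W) * e else (p.1 : W)) := by
      refine ⟨fun ⟨x, a⟩ ⟨y, b⟩ h => ?_, fun w => ?_⟩
      · cases a <;> cases b <;> simp only [if_true, if_false, Bool.false_eq_true] at h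
        · rw [Subtype.ext h]
        · exact absurd (by rw [eq_inv_mul_of_mul_eq h.symm]; exact mul_mem (inv_mem y.2) x.2) heK
        · exact absurd (by rw [eq_inv_mul_of_mul_eq h]; exact mul_mem (inv_mem x.2) y.2) heK
        · rw [Subtype.ext (mul_right_cancel h)]
      · rcases hK w with h | h
        · exact ⟨(⟨w, h⟩, false), by simp⟩
        · exact ⟨(⟨w * e, h⟩, true), by simp [mul_assoc, hW]⟩
    have hcard : Fintype.card W = 2 * Fintype.card K := by
      rw [← Fintype.card_of_bijective hbij, Fintype.card_prod, Fintype.card_bool, mul_comm]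
    rw [← hbij.sum_comp, Fintype.sum_prod_type]
    simp only [Fintype.sum_bool, if_true, if_false, Bool.false_eq_true]
    cases d with
    | zero =>
      refine Finset.sum_eq_zero fun k _ => ?_
      rw [hf ((k : W) * e) k, zmod_two_self]
    | succ d =>
      refine ih (Fintype.card K) (by omega) rfl (fun w => Subtype.ext (hW w)) d _ (hf e).restrict ?_
      rw [pow_succ] at hd
      omega

/-! ### Anisotropic quadratic maps -/

section Quad

variable {A V : Type*} [CommGroup A] [CommGroup V]

/-- The polar of a map. -/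
def polar (Q : A → V) (x y : A) : V := Q (x * y) * (Q x * Q y)

/-- An anisotropic quadratic map between elementary abelian two-groups. -/
structure Aniso (Q : A → V) : Prop where
  two : ∀ a : A, a * a = 1
  two' : ∀ v : V, v * v = 1
  bil : ∀ x y z : A, polar Q (x * y) z = polar Q x z * polar Q y z
  zero : ∀ a : A, Q a = 1 → a = 1

/-- The automorphisms preserving a map. -/
def isometries (Q : A → V) : Subgroup (MulAut A) where
  carrier := {g | ∀ a, Q (g a) = Q a}
  one_mem' _ := rfl
  mul_mem' {g h} hg hh a := by rw [MulAut.mul_apply, hg, hh]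
  inv_mem' {g} hg a := by
    conv_rhs => rw [← MulAut.apply_inv_self _ g a]
    rw [hg]

namespace Aniso

variable {Q : A → V} (hQ : Aniso Q)
include hQ

theorem inv_eq (a : A) : a⁻¹ = a := inv_eq_of_mul_eq_one_left (hQ.two a)

theorem apply_mul (x y : A) : Q (x * y) = Q x * Q y * polar Q x y := by
  rw [polar, mul_comm (Q (x * y)), ← mul_assoc, hQ.two', one_mul]

theorem polar_comm (x y : A) : polar Q x y = polar Q y x := by
  rw [polar, polar, mul_comm x y, mul_comm (Q x)]

theorem polar_one (z : A) : polar Q 1 z = 1 := by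
  have h := hQ.bil 1 1 z
  rw [one_mul] at h
  exact mul_eq_left.1 h.symm

theorem apply_one : Q 1 = 1 := by
  have h := hQ.polar_one 1
  rwa [polar, mul_one, hQ.two', mul_one] at h

theorem bil' (x y z : A) : polar Q x (y * z) = polar Q x y * polar Q x z := by
  rw [hQ.polar_comm x (y * z), hQ.bil, hQ.polar_comm y, hQ.polar_comm z]

theorem polar_self (x : A) : polar Q x x = 1 := by
  rw [polar, hQ.two, hQ.apply_one, hQ.two', one_mul]

theorem polar_map {g : MulAut A} (hg : g ∈ isometries Q) (x y : A) : polar Q (g x) (g y) = polar Q x y := by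
  rw [polar, polar, ← map_mul, hg, hg, hg]

/-- The range of `g - 1`. -/
def commRange (g : MulAut A) : Subgroup A := (g.toMonoidHom * MonoidHom.id A).range

/-- The fixed points. -/
def fixed (g : MulAut A) : Subgroup A := (g.toMonoidHom * MonoidHom.id A).ker

omit hQ in
theorem mem_commRange {g : MulAut A} {x : A} : x ∈ commRange g ↔ ∃ y, g y * y = x := Iff.rfl

theorem mem_fixed {g : MulAut A} {x : A} : x ∈ fixed g ↔ g x = x := by
  show g x * x = 1 ↔ _
  rw [mul_eq_one_iff_eq_inv, hQ.inv_eq]

theorem polar_fixed_commRange {g : MulAut A} (hg : g ∈ isometries Q) {x y : A} (hx : g x = x)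
    (hy : y ∈ commRange g) : polar Q x y = 1 := by
  obtain ⟨c, rfl⟩ := mem_commRange.1 hy
  rw [hQ.bil']
  conv_lhs => arg 1; rw [← hx, hQ.polar_map hg]
  exact hQ.two' _

theorem fixed_inf_commRange [Finite A] {g : MulAut A} (hodd : Odd (orderOf g)) {x : A} (hx : g x = x)
    (hy : x ∈ commRange g) : x = 1 := by
  obtain ⟨c, hc⟩ := mem_commRange.1 hy
  have hgc : g c = x * c := by rw [← hc, mul_assoc, hQ.two, mul_one]
  have hn : ∀ k : ℕ, (g ^ k) c = x ^ k * c := fun k => by
    induction k with
    | zero => simp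
    | succ k ih => rw [pow_succ', MulAut.mul_apply, ih, map_mul, map_pow, hx, hgc, pow_succ, mul_assoc]
  have h1 := hn (orderOf g)
  rw [pow_orderOf_eq_one, MulAut.one_apply, right_eq_mul] at h1
  obtain ⟨j, hj⟩ := hodd
  rwa [hj, pow_succ, pow_mul, pow_two, hQ.two, one_pow, one_mul] at h1

theorem exists_decomp [Finite A] {g : MulAut A} (hodd : Odd (orderOf g)) (x : A) :
    ∃ p q, g p = p ∧ q ∈ commRange g ∧ p * q = x := by
  have hdisj : Disjoint (fixed g) (commRange g) := Subgroup.disjoint_def.2 fun h1 h2 =>
    hQ.fixed_inf_commRange hodd (hQ.mem_fixed.1 h1) h2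
  have hcard : Nat.card (fixed g) * Nat.card (commRange g) = Nat.card A := by
    rw [fixed, commRange, ← Subgroup.index_ker, Subgroup.card_mul_index]
  obtain ⟨⟨p, q⟩, hpq⟩ :=
    ((Subgroup.isComplement'_of_card_mul_and_disjoint hcard hdisj) : Subgroup.IsComplement' _ _).2 x
  exact ⟨p, q, hQ.mem_fixed.1 p.2, q.2, hpq⟩

/-- Too large a subgroup contains a zero of few coordinates. -/
theorem card_le_sq [Finite A] [Finite V] (W : Subgroup A) (V₀ : Subgroup V) (hV₀ : ∀ w ∈ W, Q w ∈ V₀) :
    Nat.card W ≤ Nat.card V₀ ^ 2 := by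
  classical
  by_contra hlt
  rw [not_le] at hlt
  haveI := Fintype.ofFinite W
  letI : Module (ZMod 2) (Additive V₀) :=
    AddCommGroup.zmodModule fun x => by rw [two_nsmul]; exact Subtype.ext (hQ.two' x.toMul)
  let B := Module.finBasis (ZMod 2) (Additive V₀)
  set k := Module.finrank (ZMod 2) (Additive V₀) with hk
  have hcard : Nat.card V₀ = 2 ^ k := by
    have h := Module.natCard_eq_pow_finrank (K := ZMod 2) (V := Additive V₀)
    rwa [Nat.card_zmod, ← hk] at h
  let val : W → Additive V₀ := fun w => Additive.ofMul ⟨Q w, hV₀ w w.2⟩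
  have hterm : ∀ j, Deg 2 fun w : W => 1 + B.coord j (val w) := fun j h₁ h₂ x y => by
    have hval : ∀ a b : W, val (a * b) + val a + val b =
        Additive.ofMul (⟨polar Q a b, mul_mem (hV₀ _ (a * b).2) (mul_mem (hV₀ _ a.2) (hV₀ _ b.2))⟩ : V₀) :=
      fun a b => by
        show Additive.ofMul ((⟨Q (a * b : W), _⟩ : V₀) * ⟨Q a, _⟩ * ⟨Q b, _⟩) = _
        exact congrArg _ (Subtype.ext (mul_assoc _ _ _))
    let c : W → W → ZMod 2 := fun a b => B.coord j (val (a * b) + val a + val b)
    have hc : ∀ a b b' : W, c (a * b) b' = c a b' + c b b' := fun a b b' => by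
      simp only [c, hval, ← map_add]
      exact congrArg _ (congrArg Additive.ofMul (Subtype.ext (hQ.bil (a : A) b b')))
    have hg : ∀ a b : W, B.coord j (val (a * b)) = c a b + B.coord j (val a) + B.coord j (val b) := fun a b => by
      simp only [c, map_add]
      linear_combination (-1 : ZMod 2) * zmod_two_self (B.coord j (val a)) -
        zmod_two_self (B.coord j (val b))
    show 1 + B.coord j (val (x * h₂ * h₁)) + (1 + B.coord j (val (x * h₂))) +
        (1 + B.coord j (val (x * h₁)) + (1 + B.coord j (val x))) =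
      1 + B.coord j (val (y * h₂ * h₁)) + (1 + B.coord j (val (y * h₂))) +
        (1 + B.coord j (val (y * h₁)) + (1 + B.coord j (val y)))
    rw [hg (x * h₂), hg x h₁, hg (y * h₂), hg y h₁, hc x h₂, hc y h₂]
    linear_combination zmod_two_self (c x h₁) - zmod_two_self (c y h₁) +
      zmod_two_self (B.coord j (val x)) + zmod_two_self (B.coord j (val (x * h₂))) -
      zmod_two_self (B.coord j (val y)) - zmod_two_self (B.coord j (val (y * h₂)))
  have hdeg : ∀ s : Finset (Fin k), Deg (2 * s.card) fun w : W => ∏ j ∈ s, (1 + B.coord j (val w)) := fun s => by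
    induction s using Finset.induction_on with
    | empty => simp only [Finset.prod_empty, Finset.card_empty]; exact Deg.const 1 0
    | insert j s hj ih =>
      simp only [Finset.prod_insert hj]
      exact Deg.mul (by rw [Finset.card_insert_of_notMem hj]; omega) (hterm j) ih
  have hsum := sum_eq_zero_of_deg _ rfl (fun w : W => Subtype.ext (hQ.two w)) _ _ (hdeg Finset.univ) (by
    rw [Finset.card_univ, Fintype.card_fin, ← Nat.card_eq_fintype_card, pow_mul']
    rwa [← hcard])
  rw [Fintype.sum_eq_single (1 : W) fun w hw => ?_] at hsum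
  · have h1 : val 1 = 0 := congrArg Additive.ofMul (Subtype.ext hQ.apply_one)
    simp [h1] at hsum
  · obtain ⟨j, hj⟩ : ∃ j, B.coord j (val w) ≠ 0 := by
      by_contra hall
      push Not at hall
      refine hw (Subtype.ext (hQ.zero _ ?_))
      exact congrArg (fun v : Additive V₀ => (v.toMul : V)) (B.ext_elem (x := val w) (y := 0) fun j => by
        rw [map_zero, Finsupp.zero_apply]; exact hall j)
    refine Finset.prod_eq_zero (Finset.mem_univ j) ?_
    have hz : ∀ a : ZMod 2, a ≠ 0 → 1 + a = 0 := by decide
    exact hz _ hj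

end Aniso

end Quad

end CfsgLib.OutSolv
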