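import Cfsg.Agent.Lib.OutSolv.TwoGroup
import Cfsg.Agent.Lib.Transfer.Focal
import Cfsg.Agent.Lib.OddConseq.SylowFixC
import Cfsg.Agent.Lib.OddConseq.Unconditional
import Cfsg.Prelude.Def_KGroupFacts

/-!
Perfect groups of automorphisms of a simple group whose Sylow two-subgroup has commuting conjugate
involutions consist of inner automorphisms.
-/

set_option autoImplicit false
set_option linter.unusedSectionVars false

namespace CfsgLib.OutSolv

open scoped commutatorElement
open Cfsg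

universe u

variable {G : Type u} [Group G]

/-- Automorphisms fixing each element of a set. -/
def fixGrp (s : Set G) : Subgroup (MulAut G) where
  carrier := {φ | ∀ x ∈ s, φ x = x}
  one_mem' _ _ := rfl
  mul_mem' {a b} ha hb x hx := by rw [MulAut.mul_apply, hb x hx, ha x hx]
  inv_mem' {a} ha x hx := by
    conv_lhs => rw [← ha x hx]
    exact MulAut.inv_apply_self _ a x

/-- Automorphisms stabilizing a subgroup. -/
def stab (H : Subgroup G) : Subgroup (MulAut G) where
  carrier := {φ | ∀ x, φ x ∈ H ↔ x ∈ H}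
  one_mem' _ := Iff.rfl
  mul_mem' {a b} ha hb x := (ha (b x)).trans (hb x)
  inv_mem' {a} ha x := by
    rw [← ha (a⁻¹ x), MulAut.apply_inv_self]

theorem stab_le_normalizer (H : Subgroup G) :
    stab H ≤ Subgroup.normalizer ((H.map MulAut.conj : Subgroup _) : Set (MulAut G)) := by
  intro φ hφ
  have key : ∀ ψ ∈ stab H, ∀ x ∈ H.map MulAut.conj, ψ * x * ψ⁻¹ ∈ H.map MulAut.conj := by
    rintro ψ hψ _ ⟨g, hg, rfl⟩
    exact ⟨ψ g, (hψ g).2 hg, MulEquiv.ext fun y => by simp [MulAut.mul_apply]⟩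
  rw [Subgroup.mem_normalizer_iff]
  refine fun x => ⟨key φ hφ x, fun hx => ?_⟩
  simpa [mul_assoc] using key φ⁻¹ (inv_mem hφ) _ hx

theorem conj_injective [IsSimpleGroup G] (hG : ¬ IsMulCommutative G) :
    Function.Injective (MulAut.conj : G →* MulAut G) := by
  refine (injective_iff_map_eq_one _).2 fun g hg => ?_
  have hmem : g ∈ Subgroup.center G := Subgroup.mem_center_iff.2 fun y => by
    have h := DFunLike.congr_fun hg y
    rw [MulAut.conj_apply, MulAut.one_apply] at h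
    exact (mul_inv_eq_iff_eq_mul.1 h).symm
  rcases (inferInstance : (Subgroup.center G).Normal).eq_bot_or_eq_top with h | h
  · rwa [h, Subgroup.mem_bot] at hmem
  · exact absurd ⟨⟨fun a b => (Subgroup.mem_center_iff.1 (h ▸ Subgroup.mem_top b) a)⟩⟩ hG

theorem stab_of_mem_normalizer {H : Subgroup G} (hinj : Function.Injective (MulAut.conj : G →* MulAut G))
    {φ : MulAut G} (hφ : φ ∈ Subgroup.normalizer ((H.map MulAut.conj : Subgroup _) : Set (MulAut G))) :
    φ ∈ stab H := fun x => by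
  have e : φ * MulAut.conj x * φ⁻¹ = MulAut.conj (φ x) := MulEquiv.ext fun y => by simp [MulAut.mul_apply]
  have h := Subgroup.mem_normalizer_iff.1 hφ (MulAut.conj x)
  rwa [e, Subgroup.mem_map_iff_mem hinj, Subgroup.mem_map_iff_mem hinj, iff_comm] at h

/-- Perfect groups of automorphisms are inner once those stabilizing a Sylow subgroup are. -/
theorem perfect_le_inn_of_stab [Finite G] [IsSimpleGroup G] (hG : ¬ IsMulCommutative G) (S : Sylow 2 G)
    (h : ∀ L : Subgroup (MulAut G), IsPerf L → L ≤ stab (S : Subgroup G) → L ≤ Inn G)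
    (L : Subgroup (MulAut G)) (hL : IsPerf L) : L ≤ Inn G := by
  haveI : Fact (Nat.Prime 2) := ⟨Nat.prime_two⟩
  haveI : Finite (MulAut G) := Finite.of_injective (fun f => (f : G → G)) DFunLike.coe_injective
  have hinj := conj_injective hG
  have hn : ∀ K : Subgroup (MulAut G), K ≤ Subgroup.normalizer (Inn G : Set (MulAut G)) := fun K => by
    haveI := innNormal G
    rw [Subgroup.normalizer_eq_top]; exact le_top
  have hidx : ¬ 2 ∣ ((S : Subgroup G).map (MulAut.conj : G →* MulAut G)).relIndex (Inn G) := by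
    rw [show Inn G = (⊤ : Subgroup G).map (MulAut.conj : G →* MulAut G) from MonoidHom.range_eq_map _,
      Subgroup.relIndex_map_map_of_injective _ _ hinj, Subgroup.relIndex_top_right]
    exact S.not_dvd_index
  have hle := le_normalizer_sup_of_sylow (hn L) (Subgroup.map_le_range _ _) (S.isPGroup'.map _) hidx
  obtain ⟨L', hL'T, hL', hLL'⟩ := exists_perf_le_sup (hn _) hL hle
  exact hLL'.trans (sup_le (h L' hL' fun φ hφ => stab_of_mem_normalizer hinj (hL'T hφ).1) le_rfl)

/-- A perfect group fixing a Sylow two-subgroup pointwise is trivial. -/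
theorem eq_bot_of_fix_sylow [Finite G] [IsSimpleGroup G] (S : Sylow 2 G) (hS : (S : Subgroup G) ≠ ⊥)
    {L : Subgroup (MulAut G)} (hL : IsPerf L) (hfix : L ≤ fixGrp (S : Set G)) : L = ⊥ := by
  have hO : ∀ N : Subgroup G, N.Normal → Odd (Nat.card N) → N = ⊥ := fun N hN ho => by
    refine hN.eq_bot_or_eq_top.resolve_right fun htop => hS ?_
    rw [htop, Subgroup.card_top] at ho
    refine Subgroup.eq_bot_of_card_eq (S : Subgroup G) ?_
    obtain ⟨n, hn⟩ := (IsPGroup.iff_card (p := 2)).1 S.isPGroup'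
    have hdvd := Subgroup.card_subgroup_dvd_card (S : Subgroup G)
    rcases Nat.eq_zero_or_pos n with rfl | hn0
    · exact hn
    · rw [hn] at hdvd
      exact absurd ((dvd_pow_self 2 hn0.ne').trans hdvd) ho.not_two_dvd_nat
  have hs := (CfsgLib.OddConseq.sylow_fixing_aut CfsgLib.OddConseq.oddSolvable hO S (fixGrp (S : Set G))
    fun φ => Iff.rfl).2
  exact hL.eq_bot_of_solvable (solvable_of_solvable_injective (Subgroup.inclusion_injective hfix))

/-- The Sylow subgroup of a normalized subgroup. -/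
theorem not_two_dvd_relIndex_inf [Finite G] (S : Sylow 2 G) {C N : Subgroup G} (hSN : (S : Subgroup G) ≤ N)
    (hCN : C ≤ N) (hn : N ≤ Subgroup.normalizer (C : Set G)) : ¬ 2 ∣ ((S : Subgroup G) ⊓ C).relIndex C := by
  haveI : Fact (Nat.Prime 2) := ⟨Nat.prime_two⟩
  obtain ⟨Q, hQ⟩ := (S.isPGroup'.to_le inf_le_left).comap_of_injective C.subtype C.subtype_injective
    |>.exists_le_sylow (p := 2) (G := C)
  have hQN : ((Q : Subgroup C).map C.subtype).subgroupOf N ≤ ⊤ := le_top
  have hQ2 : IsPGroup 2 (((Q : Subgroup C).map C.subtype).subgroupOf N) :=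
    (Q.isPGroup'.map _).comap_of_injective _ N.subtype_injective
  obtain ⟨Q', hQ'⟩ := hQ2.exists_le_sylow
  obtain ⟨n, hnx⟩ := MulAction.exists_smul_eq N Q' (S.subtype hSN)
  have hsub : ((Q : Subgroup C).map C.subtype).map (MulAut.conj (n : G)).toMonoidHom ≤ (S : Subgroup G) ⊓ C := by
    rintro _ ⟨_, ⟨q, hq, rfl⟩, rfl⟩
    refine ⟨?_, (Subgroup.mem_normalizer_iff.1 (hn n.2) _).1 q.2⟩
    have h1 : (⟨q, hCN q.2⟩ : N) ∈ (Q' : Subgroup N) := hQ' ⟨q, hq, rfl⟩
    have h2 : n * ⟨q, hCN q.2⟩ * n⁻¹ ∈ (S.subtype hSN : Subgroup N) := by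
      rw [← hnx, Sylow.coe_subgroup_smul]
      exact Subgroup.smul_mem_pointwise_smul _ (MulAut.conj n) _ h1
    exact h2
  have hcard : Nat.card (Q : Subgroup C) ≤ Nat.card (((S : Subgroup G) ⊓ C).subgroupOf C) := by
    rw [← Subgroup.card_map_of_injective C.subtype_injective,
      ← Subgroup.card_map_of_injective (f := (MulAut.conj (n : G)).toMonoidHom) (MulAut.conj (n : G)).injective,
      ← Subgroup.card_map_of_injective C.subtype_injective (K := ((S : Subgroup G) ⊓ C).subgroupOf C),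
      Subgroup.subgroupOf_map_subtype, inf_assoc, inf_idem]
    exact Subgroup.card_le_of_le hsub
  have heq : ((S : Subgroup G) ⊓ C).subgroupOf C = (Q : Subgroup C) :=
    Subgroup.eq_of_le_of_card_ge hQ hcard
  rw [Subgroup.relIndex, heq]
  exact Q.not_dvd_index

set_option maxHeartbeats 1000000 in
/-- With commuting conjugate involutions in a Sylow two-subgroup, perfect groups of automorphisms
stabilizing it are inner. -/
theorem perfect_le_inn_of_stab_of_transitive [Finite G] [IsSimpleGroup G] (hG : ¬ IsMulCommutative G)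
    (S : Sylow 2 G) (hS : (S : Subgroup G) ≠ ⊥)
    (hlin : ∀ (V : Type u) [CommGroup V] [Finite V], (∀ v : V, v * v = 1) → ∀ X L : Subgroup (MulAut V),
      (∀ v w : V, v ≠ 1 → w ≠ 1 → ∃ x : X, (x : MulAut V) v = w) → IsPerf L →
      L ≤ Subgroup.normalizer (X : Set (MulAut V)) → L ≤ X)
    (hcomm : ∀ s ∈ S, ∀ t ∈ S, orderOf s = 2 → orderOf t = 2 → s * t = t * s)
    (hconj : ∀ s ∈ S, ∀ t ∈ S, orderOf s = 2 → orderOf t = 2 → ∃ g : G, g * s * g⁻¹ = t)
    (L : Subgroup (MulAut G)) (hL : IsPerf L) (hLS : L ≤ stab (S : Subgroup G)) : L ≤ Inn G := by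
  classical
  haveI : Fact (Nat.Prime 2) := ⟨Nat.prime_two⟩
  haveI : Finite (MulAut G) := Finite.of_injective (fun f => (f : G → G)) DFunLike.coe_injective
  have hinj := conj_injective hG
  have hord : ∀ x : G, x * x = 1 → x ≠ 1 → orderOf x = 2 := fun x h h1 =>
    orderOf_eq_prime (by rwa [pow_two]) h1
  have hc2 : ∀ s ∈ (S : Subgroup G), ∀ t ∈ (S : Subgroup G), s * s = 1 → t * t = 1 → s * t = t * s := by
    intro s hs t ht hs2 ht2
    rcases eq_or_ne s 1 with rfl | hs1
    · rw [one_mul, mul_one]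
    rcases eq_or_ne t 1 with rfl | ht1
    · rw [one_mul, mul_one]
    exact hcomm s hs t ht (hord s hs2 hs1) (hord t ht2 ht1)
  let V : Subgroup G :=
    { carrier := {x | x ∈ (S : Subgroup G) ∧ x * x = 1}
      one_mem' := ⟨(S : Subgroup G).one_mem, one_mul 1⟩
      mul_mem' := fun {a b} ha hb => ⟨(S : Subgroup G).mul_mem ha.1 hb.1, by
        rw [mul_assoc, ← mul_assoc b a b, hc2 b hb.1 a ha.1 hb.2 ha.2, mul_assoc a b b, hb.2, mul_one, ha.2]⟩
      inv_mem' := fun {a} ha => ⟨(S : Subgroup G).inv_mem ha.1, by rw [← mul_inv_rev, ha.2, inv_one]⟩ }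
  have hVS : V ≤ (S : Subgroup G) := fun x hx => hx.1
  have hVc : ∀ v ∈ V, ∀ w ∈ V, v * w = w * v := fun v hv w hw => hc2 v hv.1 w hw.1 hv.2 hw.2
  have hVC : V ≤ Subgroup.centralizer (V : Set G) := fun v hv =>
    Subgroup.mem_centralizer_iff.2 fun w hw => hVc w hw v hv
  have hVw : IsWeaklyClosed V (S : Subgroup G) := ⟨hVS, fun g hg =>
    Subgroup.eq_of_le_of_card_ge (by
      rintro _ ⟨v, hv, rfl⟩
      exact ⟨hg ⟨v, hv, rfl⟩, by rw [← map_mul, hv.2, map_one]⟩)
      (Subgroup.card_map_of_injective (MulAut.conj g).injective).ge⟩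
  set N := Subgroup.normalizer (V : Set G) with hN
  set C := Subgroup.centralizer (V : Set G) with hC
  have hSN : (S : Subgroup G) ≤ N := by
    have key : ∀ s ∈ (S : Subgroup G), ∀ v ∈ V, s * v * s⁻¹ ∈ V := fun s hs v hv =>
      ⟨mul_mem (mul_mem hs hv.1) (inv_mem hs), by
        rw [show s * v * s⁻¹ * (s * v * s⁻¹) = s * (v * v) * s⁻¹ by group, hv.2, mul_one, mul_inv_cancel]⟩
    intro s hs
    rw [hN, Subgroup.mem_normalizer_iff]
    refine fun v => ⟨key s hs v, fun hv => ?_⟩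
    simpa [mul_assoc] using key s⁻¹ (inv_mem hs) _ hv
  have hnC : N ≤ Subgroup.normalizer (C : Set G) := by
    have key : ∀ n ∈ N, ∀ c ∈ C, n * c * n⁻¹ ∈ C := fun n hn c hc => Subgroup.mem_centralizer_iff.2 fun v hv => by
      have h : n⁻¹ * v * n ∈ V := by simpa using (Subgroup.mem_normalizer_iff.1 (inv_mem hn) v).1 hv
      have h' := Subgroup.mem_centralizer_iff.1 hc _ h
      calc v * (n * c * n⁻¹) = n * ((n⁻¹ * v * n) * c) * n⁻¹ := by group
        _ = n * (c * (n⁻¹ * v * n)) * n⁻¹ := by rw [h']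
        _ = n * c * n⁻¹ * v := by group
    intro n hn
    rw [Subgroup.mem_normalizer_iff]
    refine fun c => ⟨key n hn c, fun hc => ?_⟩
    simpa [mul_assoc] using key n⁻¹ (inv_mem hn) _ hc
  have hCN : C ≤ N := fun c hc => by
    rw [hN, Subgroup.mem_normalizer_iff]
    intro v
    refine ⟨fun hv => ?_, fun hv => ?_⟩
    · rw [← Subgroup.mem_centralizer_iff.1 hc v hv, mul_inv_cancel_right]; exact hv
    · have h := Subgroup.mem_centralizer_iff.1 hc _ hv
      have e : c * v * c⁻¹ = v := by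
        have h' : c * v = c * (c * v * c⁻¹) := by rw [← h]; group
        exact (mul_left_cancel h').symm
      rwa [e] at hv
  have hLV : L ≤ stab V := fun φ hφ x =>
    ⟨fun hx => ⟨(hLS hφ x).1 hx.1, φ.injective (by rw [map_mul, hx.2, map_one])⟩,
      fun hx => ⟨(hLS hφ x).2 hx.1, by rw [← map_mul, hx.2, map_one]⟩⟩
  have hstabN : stab V ≤ stab N := fun φ hφ x => by
    have key : ∀ ψ ∈ stab V, ∀ n ∈ N, ψ n ∈ N := by
      intro ψ hψ n hn
      rw [hN, Subgroup.mem_normalizer_iff]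
      intro v
      conv_lhs => rw [← MulAut.apply_inv_self _ ψ v, hψ]
      conv_rhs => rw [← MulAut.apply_inv_self _ ψ v, ← map_inv, ← map_mul, ← map_mul, hψ]
      exact Subgroup.mem_normalizer_iff.1 hn _
    exact ⟨fun h => by simpa using key φ⁻¹ (inv_mem hφ) _ h, key φ hφ x⟩
  -- on the involutions
  letI : CommGroup V := { Subgroup.toGroup V with mul_comm := fun a b => Subtype.ext (hVc a a.2 b b.2) }
  haveI : Finite (MulAut V) := Finite.of_injective (fun f => (f : V → V)) DFunLike.coe_injective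
  let ρ : stab V →* MulAut V :=
    { toFun := fun φ =>
        { toFun := fun v => ⟨(φ : MulAut G) v, (φ.2 v).2 v.2⟩
          invFun := fun v => ⟨(φ : MulAut G)⁻¹ v, ((inv_mem φ.2 : (φ : MulAut G)⁻¹ ∈ stab V) v).2 v.2⟩
          left_inv := fun v => Subtype.ext (MulAut.inv_apply_self _ _ _)
          right_inv := fun v => Subtype.ext (MulAut.apply_inv_self _ _ _)
          map_mul' := fun _ _ => Subtype.ext (map_mul _ _ _) }
      map_one' := rfl
      map_mul' := fun _ _ => rfl }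
  have hNstab : N.map MulAut.conj ≤ stab V := by
    rintro _ ⟨n, hn, rfl⟩ x
    exact (Subgroup.mem_normalizer_iff.1 hn x).symm
  let X := ((N.map MulAut.conj).subgroupOf (stab V)).map ρ
  have htransG : ∀ v ∈ V, ∀ w ∈ V, v ≠ 1 → w ≠ 1 → ∃ n ∈ N, n * v * n⁻¹ = w := by
    intro v hv w hw hv1 hw1
    obtain ⟨g, rfl⟩ := hconj v hv.1 w hw.1 (hord v hv.2 hv1) (hord w hw.2 hw1)
    exact CfsgLib.Transfer.exists_normalizer_conj_of_weaklyClosed S hVw g (hVC hv) (hVC hw)
  have hX : L.subgroupOf (stab V) ≤ X.comap ρ := by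
    rw [← Subgroup.map_le_iff_le_comap]
    refine hlin V (fun v => Subtype.ext v.2.2) X _ (fun v w hv hw => ?_) (IsPerf.map ?_ ρ) ?_
    · obtain ⟨n, hn, he⟩ := htransG v v.2 w w.2 (fun h => hv (Subtype.ext h)) (fun h => hw (Subtype.ext h))
      exact ⟨⟨_, Subgroup.mem_map_of_mem ρ (show (⟨MulAut.conj n, hNstab ⟨n, hn, rfl⟩⟩ : stab V) ∈
        (N.map MulAut.conj).subgroupOf (stab V) from ⟨n, hn, rfl⟩)⟩, Subtype.ext he⟩
    · refine Subgroup.map_injective (stab V).subtype_injective ?_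
      rw [Subgroup.map_commutator, Subgroup.subgroupOf_map_subtype, inf_eq_left.2 hLV, hL]
    · refine le_trans (Subgroup.map_mono fun φ hφ => ?_) (Subgroup.le_normalizer_map ρ)
      have h := stab_le_normalizer N (hstabN (hLV hφ))
      rw [Subgroup.mem_normalizer_iff] at h ⊢
      exact fun y => h y
  set T := fixGrp (V : Set G) with hT
  have hTV : T ≤ stab V := fun φ hφ x =>
    ⟨fun hx => by rwa [← φ.injective ((hφ _ hx) : φ (φ x) = φ x)], fun hx => by rwa [hφ x hx]⟩
  have hTn : T ≤ Subgroup.normalizer ((N.map MulAut.conj : Subgroup _) : Set (MulAut G)) :=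
    (hTV.trans hstabN).trans (stab_le_normalizer N)
  obtain ⟨L₁, hL₁T, hL₁, hLL₁⟩ := exists_perf_le_sup hTn hL (fun φ hφ => by
    obtain ⟨ψ, hψ, he⟩ := hX (show (⟨φ, hLV hφ⟩ : stab V) ∈ L.subgroupOf (stab V) from hφ)
    have hmem : φ * (ψ : MulAut G)⁻¹ ∈ T := fun x hx => by
      have hx' : (ψ : MulAut G)⁻¹ x ∈ V := ((inv_mem ψ.2 : (ψ : MulAut G)⁻¹ ∈ stab V) x).2 hx
      have h : (ψ : MulAut G) ((ψ : MulAut G)⁻¹ x) = φ ((ψ : MulAut G)⁻¹ x) :=
        congrArg Subtype.val (DFunLike.congr_fun he (⟨_, hx'⟩ : V))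
      rw [MulAut.apply_inv_self] at h
      exact h.symm
    rw [show φ = φ * (ψ : MulAut G)⁻¹ * ψ by rw [inv_mul_cancel_right]]
    exact mul_mem (Subgroup.mem_sup_left hmem) (Subgroup.mem_sup_right hψ))
  refine hLL₁.trans (sup_le ?_ (Subgroup.map_le_range _ _))
  -- Frattini for the centralizer of the involutions
  set P := (S : Subgroup G) ⊓ C with hP
  have hTC : T ≤ stab C := fun φ hφ x => by
    have key : ∀ ψ ∈ T, ∀ c ∈ C, ψ c ∈ C := fun ψ hψ c hc => Subgroup.mem_centralizer_iff.2 fun v hv => by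
      rw [← hψ v hv, ← map_mul, Subgroup.mem_centralizer_iff.1 hc v hv, map_mul]
    exact ⟨fun h => by simpa using key φ⁻¹ (inv_mem hφ) _ h, key φ hφ x⟩
  have hCT : C.map MulAut.conj ≤ T := by
    rintro _ ⟨c, hc, rfl⟩ v hv
    rw [MulAut.conj_apply, ← Subgroup.mem_centralizer_iff.1 hc v hv, mul_inv_cancel_right]
  have hidx : ¬ 2 ∣ (P.map (MulAut.conj : G →* MulAut G)).relIndex (C.map MulAut.conj) := by
    rw [Subgroup.relIndex_map_map_of_injective _ _ hinj]
    exact not_two_dvd_relIndex_inf S hSN hCN hnC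
  have hPp : IsPGroup 2 P := S.isPGroup'.to_le inf_le_left
  have hfr : L₁ ≤ (T ⊓ stab P) ⊔ C.map MulAut.conj := fun φ hφ => by
    have hn' : L₁ ≤ Subgroup.normalizer ((C.map MulAut.conj : Subgroup _) : Set (MulAut G)) :=
      (hL₁T.trans hTC).trans (stab_le_normalizer C)
    have h := le_normalizer_sup_of_sylow hn' (Subgroup.map_mono inf_le_right) (hPp.map _) hidx hφ
    rw [← SetLike.mem_coe, Subgroup.coe_mul_of_left_le_normalizer_right _ _ inf_le_right] at h
    obtain ⟨a, ha, m, hm, rfl⟩ := h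
    refine mul_mem (Subgroup.mem_sup_left ⟨?_, stab_of_mem_normalizer hinj ha.1⟩) (Subgroup.mem_sup_right hm)
    have := mul_mem (hL₁T hφ) (inv_mem (hCT hm))
    rwa [mul_inv_cancel_right] at this
  obtain ⟨L₂, hL₂T, hL₂, hLL₂⟩ := exists_perf_le_sup (T := T ⊓ stab P)
    ((inf_le_left.trans hTC).trans (stab_le_normalizer C)) hL₁ hfr
  refine hLL₂.trans (sup_le ?_ (Subgroup.map_le_range _ _))
  -- the action on the Sylow subgroup of the centralizer
  have hVP : V ≤ P := le_inf hVS hVC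
  haveI : Finite (MulAut P) := Finite.of_injective (fun f => (f : P → P)) DFunLike.coe_injective
  let σ : stab P →* MulAut P :=
    { toFun := fun φ =>
        { toFun := fun v => ⟨(φ : MulAut G) v, (φ.2 v).2 v.2⟩
          invFun := fun v => ⟨(φ : MulAut G)⁻¹ v, ((inv_mem φ.2 : (φ : MulAut G)⁻¹ ∈ stab P) v).2 v.2⟩
          left_inv := fun v => Subtype.ext (MulAut.inv_apply_self _ _ _)
          right_inv := fun v => Subtype.ext (MulAut.apply_inv_self _ _ _)
          map_mul' := fun _ _ => Subtype.ext (map_mul _ _ _) }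
      map_one' := rfl
      map_mul' := fun _ _ => rfl }
  let NP : Subgroup (stab P) := (C.map MulAut.conj).subgroupOf (stab P)
  let MP : Subgroup (stab P) := (N.map MulAut.conj).subgroupOf (stab P)
  let LP : Subgroup (stab P) := L₂.subgroupOf (stab P)
  have hL₂P : L₂ ≤ stab P := hL₂T.trans inf_le_right
  have hmemV : ∀ v : P, v * v = 1 → (v : G) ∈ V := fun v hv => ⟨v.2.1, congrArg Subtype.val hv⟩
  have hLP : IsPerf LP := by
    refine Subgroup.map_injective (stab P).subtype_injective ?_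
    rw [Subgroup.map_commutator, Subgroup.subgroupOf_map_subtype, inf_eq_left.2 hL₂P, hL₂]
  have hLPbot : LP.map σ = ⊥ := by
    refine perfect_trivial_on_two_group hPp (fun v hv x => ?_) _ (MP.map σ) (NP.map σ) (hLP.map σ) ?_ ?_ ?_ ?_ ?_ ?_
    · exact Subtype.ext (Subgroup.mem_centralizer_iff.1 x.2.2 v (hmemV v hv))
    · rintro _ ⟨φ, hφ, rfl⟩ v hv
      exact Subtype.ext ((hL₂T hφ).1 v (hmemV v hv))
    · rintro _ ⟨φ, hφ, rfl⟩ v hv
      exact Subtype.ext (hCT hφ v (hmemV v hv))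
    · refine (Subgroup.map_mono fun φ hφ => ?_).trans (Subgroup.le_normalizer_map σ)
      have h := stab_le_normalizer C (hTC (hL₂T hφ).1)
      rw [Subgroup.mem_normalizer_iff] at h ⊢
      exact fun y => h y
    · rw [← Subgroup.map_commutator]
      refine Subgroup.map_mono (Subgroup.commutator_le.2 fun φ hφ ψ hψ => ?_)
      obtain ⟨n, hn, he⟩ := hψ
      refine ⟨(φ : MulAut G) n * n⁻¹, ?_, ?_⟩
      · refine Subgroup.mem_centralizer_iff.2 fun v hv => ?_
        have hT1 : (φ : MulAut G) ∈ T := (hL₂T hφ).1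
        have hv' : n⁻¹ * v * n ∈ V := by simpa using (Subgroup.mem_normalizer_iff.1 (inv_mem hn) v).1 hv
        have e : (φ : MulAut G) n * (n⁻¹ * v * n) * ((φ : MulAut G) n)⁻¹ = v := by
          have h0 := hT1 _ hv
          calc _ = (φ : MulAut G) n * (φ : MulAut G) (n⁻¹ * v * n) * ((φ : MulAut G) n)⁻¹ := by rw [hT1 _ hv']
            _ = (φ : MulAut G) v := by rw [← map_inv, ← map_mul, ← map_mul]; group
            _ = v := h0
        calc v * ((φ : MulAut G) n * n⁻¹) = ((φ : MulAut G) n * (n⁻¹ * v * n) * ((φ : MulAut G) n)⁻¹) * ((φ : MulAut G) n * n⁻¹) := by rw [e]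
          _ = (φ : MulAut G) n * n⁻¹ * v := by group
      · show MulAut.conj ((φ : MulAut G) n * n⁻¹) = (φ : MulAut G) * ψ * (φ : MulAut G)⁻¹ * (ψ : MulAut G)⁻¹
        rw [show (ψ : MulAut G) = MulAut.conj n from he.symm, map_mul, map_inv]
        congr 1
        exact MulEquiv.ext fun y => by simp [MulAut.mul_apply]
    · have hle : ((P.map MulAut.conj).subgroupOf (stab P)).map σ ≤ (MulAut.conj : P →* MulAut P).range := by
        rintro _ ⟨φ, ⟨p, hp, he⟩, rfl⟩
        exact ⟨⟨p, hp⟩, MulEquiv.ext fun x => Subtype.ext (DFunLike.congr_fun he (x : G))⟩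
      intro hdvd
      refine hidx ?_
      have hPstab : P.map MulAut.conj ≤ stab P := by
        rintro _ ⟨p, hp, rfl⟩ x
        exact (Subgroup.mem_normalizer_iff.1 (Subgroup.le_normalizer hp) x).symm
      have h1 : (MulAut.conj : P →* MulAut P).range.relIndex (NP.map σ) ∣
          ((P.map MulAut.conj).subgroupOf (stab P)).relIndex NP := by
        rw [← Subgroup.relIndex_comap]
        exact Subgroup.relIndex_dvd_of_le_left _ (Subgroup.map_le_iff_le_comap.1 hle)
      have h2 : ((P.map MulAut.conj).subgroupOf (stab P)).relIndex NP =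
          (P.map MulAut.conj).relIndex (C.map MulAut.conj ⊓ stab P) := by
        rw [show NP = (C.map MulAut.conj ⊓ stab P).subgroupOf (stab P) from (Subgroup.inf_subgroupOf_right _ _).symm,
          Subgroup.relIndex_subgroupOf inf_le_right]
      have h3 : (P.map MulAut.conj).relIndex (C.map MulAut.conj ⊓ stab P) ∣
          (P.map MulAut.conj).relIndex (C.map MulAut.conj) := by
        rw [← Subgroup.relIndex_mul_relIndex _ _ (C.map MulAut.conj)
          (le_inf (Subgroup.map_mono inf_le_right) hPstab) inf_le_left]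
        exact dvd_mul_right _ _
      exact hdvd.trans (h1.trans (h2 ▸ h3))
    · intro v w hv hw hv1 hw1
      obtain ⟨n, hn, he⟩ := htransG v (hmemV v hv) w (hmemV w hw) (fun h => hv1 (Subtype.ext h))
        (fun h => hw1 (Subtype.ext h))
      have h := le_normalizer_sup_of_sylow hnC (inf_le_right : P ≤ C) hPp (not_two_dvd_relIndex_inf S hSN hCN hnC) hn
      rw [← SetLike.mem_coe, Subgroup.coe_mul_of_left_le_normalizer_right _ _ inf_le_right] at h
      obtain ⟨a, ha, m, hm, rfl⟩ := h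
      have haN : a ∈ N := by
        have h' := mul_mem hn (inv_mem (hCN hm))
        rwa [mul_inv_cancel_right] at h'
      have hmem : MulAut.conj a ∈ stab P := fun x => (Subgroup.mem_normalizer_iff.1 ha.1 x).symm
      refine ⟨σ ⟨_, hmem⟩, Subgroup.mem_map_of_mem σ (show (⟨_, hmem⟩ : stab P) ∈ MP from ⟨a, haN, rfl⟩),
        Subtype.ext ?_⟩
      show a * (v : G) * a⁻¹ = w
      rw [← he, show a * m * v * (a * m)⁻¹ = a * (m * v * m⁻¹) * a⁻¹ by group,
        ← Subgroup.mem_centralizer_iff.1 hm v (hmemV v hv), mul_inv_cancel_right]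
  have hfixP : ∀ φ ∈ L₂, ∀ x ∈ P, φ x = x := fun φ hφ x hx => by
    have h : σ ⟨φ, hL₂P hφ⟩ ∈ LP.map σ := Subgroup.mem_map_of_mem σ hφ
    rw [hLPbot, Subgroup.mem_bot] at h
    exact congrArg Subtype.val (DFunLike.congr_fun h (⟨x, hx⟩ : P))
  -- the last Frattini step
  set C₀ := Subgroup.centralizer (P : Set G) with hC₀
  set H := C₀ ⊔ (S : Subgroup G) with hH
  have hSP : ∀ t ∈ (S : Subgroup G), ∀ x ∈ P, t * x * t⁻¹ ∈ P := fun t ht x hx =>
    ⟨(S : Subgroup G).mul_mem ((S : Subgroup G).mul_mem ht hx.1) ((S : Subgroup G).inv_mem ht), (Subgroup.mem_normalizer_iff.1 (hnC (hSN ht)) x).1 hx.2⟩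
  have hdiff : ∀ φ : MulAut G, (∀ x ∈ P, φ x = x) → ∀ t ∈ (S : Subgroup G), t⁻¹ * φ t ∈ C₀ := fun φ hφ t ht =>
    Subgroup.mem_centralizer_iff.2 fun x hx => by
      have h1 : φ (t * x * t⁻¹) = t * x * t⁻¹ := hφ _ (hSP t ht x hx)
      rw [map_mul, map_mul, map_inv, hφ x hx] at h1
      calc x * (t⁻¹ * φ t) = t⁻¹ * (t * x * t⁻¹) * φ t := by group
        _ = t⁻¹ * (φ t * x * (φ t)⁻¹) * φ t := by rw [h1]
        _ = t⁻¹ * φ t * x := by group
  have hL₂H : L₂ ≤ stab H := by
    have key : ∀ φ ∈ L₂, H ≤ H.comap φ.toMonoidHom := fun φ hφ => sup_le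
      (fun c hc => Subgroup.mem_sup_left (Subgroup.mem_centralizer_iff.2 fun x hx => by
        show x * φ c = φ c * x
        rw [← hfixP φ hφ x hx, ← map_mul, Subgroup.mem_centralizer_iff.1 hc x hx, map_mul]))
      (fun t ht => by
        show φ t ∈ H
        rw [← mul_inv_cancel_left t (φ t)]
        exact mul_mem (Subgroup.mem_sup_right ht) (Subgroup.mem_sup_left (hdiff φ (hfixP φ hφ) t ht)))
    exact fun φ hφ x => ⟨fun h => by simpa using key φ⁻¹ (inv_mem hφ) h, fun h => key φ hφ h⟩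
  let SP : Subgroup (stab P) := ((S : Subgroup G).map MulAut.conj).subgroupOf (stab P)
  let K : Subgroup (MulAut G) := ((SP.map σ).comap σ).map (stab P).subtype
  have hSK : (S : Subgroup G).map MulAut.conj ≤ K := by
    rintro _ ⟨t, ht, rfl⟩
    have hmem : MulAut.conj t ∈ stab P := fun x =>
      ⟨fun h => by simpa [mul_assoc] using hSP t⁻¹ (inv_mem ht) _ h, fun h => hSP t ht x h⟩
    exact ⟨⟨_, hmem⟩, Subgroup.mem_map_of_mem σ (show (⟨_, hmem⟩ : stab P) ∈ SP from ⟨t, ht, rfl⟩), rfl⟩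
  have hfixK : ∀ φ : MulAut G, (∀ x ∈ P, φ x = x) → φ ∈ K := fun φ hφ => by
    have hmem : φ ∈ stab P := fun x =>
      ⟨fun h => by have h' := φ.injective (hφ _ h); rwa [h'] at h, fun h => by rwa [hφ x h]⟩
    refine ⟨⟨φ, hmem⟩, ?_, rfl⟩
    show σ ⟨φ, hmem⟩ ∈ SP.map σ
    rw [show σ ⟨φ, hmem⟩ = 1 from MulEquiv.ext fun x => Subtype.ext (hφ x x.2)]
    exact one_mem _
  have hHK : H.map MulAut.conj ≤ K := by
    rw [hH, Subgroup.map_sup]
    refine sup_le ?_ hSK
    rintro _ ⟨c, hc, rfl⟩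
    refine hfixK _ fun x hx => ?_
    rw [MulAut.conj_apply, ← Subgroup.mem_centralizer_iff.1 hc x hx, mul_inv_cancel_right]
  have hidxH : ¬ 2 ∣ ((S : Subgroup G).map (MulAut.conj : G →* MulAut G)).relIndex (H.map MulAut.conj) := by
    rw [Subgroup.relIndex_map_map_of_injective _ _ hinj]
    intro h
    exact S.not_dvd_index ((Subgroup.relIndex_mul_index (le_sup_right : (S : Subgroup G) ≤ H)) ▸ h.mul_right _)
  set NS := Subgroup.normalizer (((S : Subgroup G).map MulAut.conj : Subgroup _) : Set (MulAut G)) ⊓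
    Subgroup.normalizer ((H.map MulAut.conj : Subgroup _) : Set (MulAut G)) with hNS
  have hfr2 : L₂ ≤ (NS ⊓ K) ⊔ H.map MulAut.conj := fun φ hφ => by
    have h := le_normalizer_sup_of_sylow (hL₂H.trans (stab_le_normalizer H))
      (Subgroup.map_mono (le_sup_right : (S : Subgroup G) ≤ H)) (S.isPGroup'.map _) hidxH hφ
    rw [← SetLike.mem_coe, Subgroup.coe_mul_of_left_le_normalizer_right _ _ inf_le_right] at h
    obtain ⟨a, ha, m, hm, rfl⟩ := h
    refine mul_mem (Subgroup.mem_sup_left ⟨ha, ?_⟩) (Subgroup.mem_sup_right hm)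
    have h' := mul_mem (hfixK _ (hfixP _ hφ)) (inv_mem (hHK hm))
    rwa [mul_inv_cancel_right] at h'
  obtain ⟨L₃, hL₃T, hL₃, hLL₃⟩ := exists_perf_le_sup (T := NS ⊓ K) (inf_le_left.trans inf_le_right) hL₂ hfr2
  refine hLL₃.trans (sup_le ?_ (Subgroup.map_le_range _ _))
  have hL₃K : L₃ ≤ K := hL₃T.trans inf_le_right
  have hL₃P : L₃ ≤ stab P := fun φ hφ => by
    obtain ⟨ψ, -, hψ⟩ := hL₃K hφ
    rw [← hψ]; exact ψ.2
  have hL₃fix : ∀ φ ∈ L₃, ∀ x ∈ P, φ x = x := by
    have hb : (L₃.subgroupOf (stab P)).map σ = ⊥ := by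
      refine (IsPerf.map ?_ σ).eq_bot_of_solvable ?_
      · refine Subgroup.map_injective (stab P).subtype_injective ?_
        rw [Subgroup.map_commutator, Subgroup.subgroupOf_map_subtype, inf_eq_left.2 hL₃P, hL₃]
      have hp2 : IsPGroup 2 (SP.map σ) :=
        (((S.isPGroup'.map _).comap_of_injective _ (stab P).subtype_injective)).map σ
      haveI := hp2.isNilpotent
      refine solvable_of_solvable_injective (Subgroup.inclusion_injective (K := SP.map σ) ?_)
      rintro _ ⟨φ, hφ, rfl⟩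
      obtain ⟨ψ, hψ, he⟩ := hL₃K hφ
      rwa [show ψ = φ from Subtype.ext he] at hψ
    intro φ hφ x hx
    have h : σ ⟨φ, hL₃P hφ⟩ ∈ (L₃.subgroupOf (stab P)).map σ := Subgroup.mem_map_of_mem σ hφ
    rw [hb, Subgroup.mem_bot] at h
    exact congrArg Subtype.val (DFunLike.congr_fun h (⟨x, hx⟩ : P))
  have hL₃S : ∀ φ ∈ L₃, ∀ t ∈ (S : Subgroup G), φ t ∈ (S : Subgroup G) := fun φ hφ t ht =>
    (stab_of_mem_normalizer hinj (hL₃T hφ).1.1 t).2 ht
  have hz : ∀ φ ∈ L₃, ∀ t ∈ (S : Subgroup G), t⁻¹ * φ t ∈ P ∧ t⁻¹ * φ t ∈ C₀ := fun φ hφ t ht =>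
    have h := hdiff φ (hL₃fix φ hφ) t ht
    ⟨⟨(S : Subgroup G).mul_mem ((S : Subgroup G).inv_mem ht) (hL₃S φ hφ t ht),
      Subgroup.mem_centralizer_iff.2 fun v hv => Subgroup.mem_centralizer_iff.1 h v (hVP hv)⟩, h⟩
  have hcommS : ∀ f ∈ L₃, ∀ g ∈ L₃, ∀ t ∈ (S : Subgroup G), f (g t) = g (f t) := fun f hf g hg t ht => by
    obtain ⟨hfP, hfC⟩ := hz f hf t ht
    obtain ⟨hgP, hgC⟩ := hz g hg t ht
    calc f (g t) = f (t * (t⁻¹ * g t)) := by rw [mul_inv_cancel_left]
      _ = t * ((t⁻¹ * f t) * (t⁻¹ * g t)) := by rw [map_mul, hL₃fix f hf _ hgP, ← mul_assoc t, mul_inv_cancel_left]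
      _ = t * ((t⁻¹ * g t) * (t⁻¹ * f t)) := by rw [← Subgroup.mem_centralizer_iff.1 hfC _ hgP]
      _ = g (t * (t⁻¹ * f t)) := by rw [map_mul, hL₃fix g hg _ hfP, ← mul_assoc t, mul_inv_cancel_left]
      _ = g (f t) := by rw [mul_inv_cancel_left]
  have hfixS : ⁅L₃, L₃⁆ ≤ fixGrp ((S : Subgroup G) : Set G) := Subgroup.commutator_le.2 fun f hf g hg t ht => by
    have ht' : f⁻¹ (g⁻¹ t) ∈ (S : Subgroup G) := hL₃S _ (inv_mem hf) _ (hL₃S _ (inv_mem hg) t ht)
    rw [commutatorElement_def, MulAut.mul_apply, MulAut.mul_apply, MulAut.mul_apply, hcommS f hf g hg _ ht',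
      MulAut.apply_inv_self, MulAut.apply_inv_self]
  rw [hL₃] at hfixS
  rw [eq_bot_of_fix_sylow S hS hL₃ hfixS]
  exact bot_le

end CfsgLib.OutSolv
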