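import Cfsg.Agent.Lib.OutSolv.Core
import Cfsg.Agent.Lib.Critical.Basic

/-!
Perfect groups of automorphisms of a two-group whose involutions are central and permuted
transitively.
-/

set_option autoImplicit false
set_option linter.unusedSectionVars false

namespace CfsgLib.OutSolv

open scoped commutatorElement

theorem isPGroup_two_of_odd {G : Type*} [Group G] [Finite G] (U : Subgroup G)
    (h : ∀ a ∈ U, Odd (orderOf a) → a = 1) : IsPGroup 2 U := by
  intro u
  obtain ⟨k, m, hm, hkm⟩ := Nat.exists_eq_pow_mul_and_not_dvd (n := orderOf u) (orderOf_pos u).ne' 2 (by norm_num)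
  refine ⟨k, Subtype.ext (h _ (u ^ 2 ^ k).2 ?_)⟩
  rw [Subgroup.orderOf_coe, orderOf_pow_of_dvd (by positivity) ⟨m, hkm⟩, hkm, Nat.mul_div_cancel_left _ (by positivity)]
  exact Nat.not_even_iff_odd.1 fun he => hm he.two_dvd

/-- Restriction of automorphisms to a characteristic subgroup. -/
def restrChar {P : Type*} [Group P] (C : Subgroup P) [hC : C.Characteristic] : MulAut P →* MulAut C where
  toFun φ :=
    { toFun := fun c => ⟨φ c, (SetLike.ext_iff.1 (hC.fixed φ) (c : P)).2 c.2⟩
      invFun := fun c => ⟨φ⁻¹ c, (SetLike.ext_iff.1 (hC.fixed φ⁻¹) (c : P)).2 c.2⟩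
      left_inv := fun c => Subtype.ext (MulAut.inv_apply_self _ φ c)
      right_inv := fun c => Subtype.ext (MulAut.apply_inv_self _ φ c)
      map_mul' := fun _ _ => Subtype.ext (map_mul φ _ _) }
  map_one' := rfl
  map_mul' _ _ := rfl

@[simp]
theorem coe_restrChar {P : Type*} [Group P] (C : Subgroup P) [C.Characteristic] (φ : MulAut P) (c : C) :
    (restrChar C φ c : P) = φ c := rfl

/-- An automorphism of odd order fixing all involutions of a central subgroup fixes the subgroup. -/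
theorem fix_of_fix_involutions {P : Type*} [Group P] [Finite P] (hP : IsPGroup 2 P) (Z : Subgroup P)
    (hZc : ∀ a ∈ Z, ∀ b ∈ Z, a * b = b * a) (f : MulAut P) (hfZ : ∀ z ∈ Z, f z ∈ Z) (hodd : Odd (orderOf f))
    (hfix : ∀ z ∈ Z, z * z = 1 → f z = z) : ∀ z ∈ Z, f z = z := by
  intro z
  induction h : orderOf z using Nat.strong_induction_on generalizing z with
  | _ n ih =>
    intro hz
    obtain ⟨k, hk⟩ := hP z
    rcases eq_or_ne (orderOf z) 1 with h1 | h1
    · rw [orderOf_eq_one_iff.1 h1, map_one]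
    have hdvd : orderOf z ∣ 2 ^ k := orderOf_dvd_of_pow_eq_one hk
    obtain ⟨j, -, hj⟩ := (Nat.dvd_prime_pow Nat.prime_two).1 hdvd
    have hj0 : j ≠ 0 := fun h0 => h1 (by rw [hj, h0, pow_zero])
    have h2 : orderOf (z * z) < n := by
      rw [← h, ← pow_two, orderOf_pow_of_dvd two_ne_zero (by rw [hj]; exact dvd_pow_self 2 hj0)]
      exact Nat.div_lt_self (orderOf_pos z) one_lt_two
    have h3 := ih _ h2 (z * z) rfl (mul_mem hz hz)
    obtain ⟨v, hv⟩ : ∃ v, f z * z⁻¹ = v := ⟨_, rfl⟩
    have hvZ : v ∈ Z := hv ▸ mul_mem (hfZ z hz) (inv_mem hz)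
    have hv2 : v * v = 1 := by
      have hc : Commute (f z) z⁻¹ := hZc _ (hfZ z hz) _ (inv_mem hz)
      rw [← hv, ← pow_two, hc.mul_pow, pow_two, ← map_mul, h3, pow_two, ← mul_inv_rev, mul_inv_cancel]
    have hfz : f z = v * z := by rw [← hv, inv_mul_cancel_right]
    have hm : ∀ m : ℕ, (f ^ m) z = v ^ m * z := fun m => by
      induction m with
      | zero => simp
      | succ m ihm => rw [pow_succ', MulAut.mul_apply, ihm, map_mul, map_pow, hfix v hvZ hv2, hfz, pow_succ, mul_assoc]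
    have h4 := hm (orderOf f)
    rw [pow_orderOf_eq_one, MulAut.one_apply, right_eq_mul] at h4
    obtain ⟨i, hi⟩ := hodd
    rw [hi, pow_succ, pow_mul, pow_two, hv2, one_pow, one_mul] at h4
    rw [hfz, h4, one_mul]

set_option maxHeartbeats 1000000 in
/-- A perfect group of automorphisms that fixes the involutions and commutes modulo an almost inner
group with a group transitive on them is trivial. -/
theorem perfect_trivial_on_two_group {P : Type*} [Group P] [Finite P] (hP : IsPGroup 2 P)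
    (hcen : ∀ v : P, v * v = 1 → ∀ x : P, v * x = x * v) (L M N : Subgroup (MulAut P)) (hL : IsPerf L)
    (hLfix : ∀ f ∈ L, ∀ v : P, v * v = 1 → f v = v) (hNfix : ∀ f ∈ N, ∀ v : P, v * v = 1 → f v = v)
    (hLN : L ≤ Subgroup.normalizer (N : Set (MulAut P))) (hLM : ⁅L, M⁆ ≤ N)
    (hInn : ¬ 2 ∣ (MulAut.conj : P →* MulAut P).range.relIndex N)
    (htrans : ∀ v w : P, v * v = 1 → w * w = 1 → v ≠ 1 → w ≠ 1 → ∃ m ∈ M, (m : MulAut P) v = w) :
    L = ⊥ := by
  classical
  haveI : Fact (Nat.Prime 2) := ⟨Nat.prime_two⟩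
  haveI : Finite (MulAut P) := Finite.of_injective (fun f => (f : P → P)) DFunLike.coe_injective
  rcases subsingleton_or_nontrivial P with hsub | hnt
  · exact (Subgroup.eq_bot_iff_forall L).2 fun f _ => MulEquiv.ext fun x => Subsingleton.elim _ _
  obtain ⟨C, hC, hCp, hCc, hCcent⟩ := CfsgLib.Critical.exists_isCrit (p := 2) hP
  haveI := hC
  set Z := C ⊓ Subgroup.centralizer (C : Set P) with hZdef
  haveI hZn : Z.Normal := by rw [hZdef]; infer_instance
  haveI hZchar : Z.Characteristic := by rw [hZdef]; infer_instance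
  have hZC : ∀ z ∈ Z, ∀ c ∈ C, c * z = z * c := fun z hz c hc => Subgroup.mem_centralizer_iff.1 hz.2 c hc
  have hZc : ∀ a ∈ Z, ∀ b ∈ Z, a * b = b * a := fun a ha b hb => hZC b hb a ha.1
  have hVZ : ∀ v : P, v * v = 1 → v ∈ Z := fun v hv => by
    have h : v ∈ Subgroup.centralizer (C : Set P) := Subgroup.mem_centralizer_iff.2 fun c _ => (hcen v hv c).symm
    exact ⟨hCcent h, h⟩
  have hfixZ : ∀ φ : MulAut P, ∀ z ∈ Z, φ z ∈ Z := fun φ z hz => (SetLike.ext_iff.1 (hZchar.fixed φ) z).2 hz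
  -- first the center of the critical subgroup
  let rZ := restrChar Z
  have hLZ : ∀ f ∈ L, ∀ z ∈ Z, f z = z := by
    let K : Subgroup (MulAut Z) :=
      { carrier := {a | ∀ z : Z, (z : P) * z = 1 → a z = z}
        one_mem' := fun _ _ => rfl
        mul_mem' := fun {a b} ha hb z hz => by rw [MulAut.mul_apply, hb z hz, ha z hz]
        inv_mem' := fun {a} ha z hz => by
          conv_lhs => rw [← ha z hz]
          exact MulAut.inv_apply_self _ a z }
    have hK : IsPGroup 2 K := by
      haveI : Finite (MulAut Z) := Finite.of_injective (fun f => (f : Z → Z)) DFunLike.coe_injective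
      refine isPGroup_two_of_odd K fun a ha hodd => MulEquiv.ext fun z => ?_
      exact fix_of_fix_involutions (hP.to_subgroup Z) ⊤
        (fun x _ y _ => Subtype.ext (hZc x x.2 y y.2)) a (fun _ _ => trivial) hodd
        (fun x _ hx => ha x (congrArg Subtype.val hx)) z trivial
    haveI : Finite (MulAut Z) := Finite.of_injective (fun f => (f : Z → Z)) DFunLike.coe_injective
    haveI := hK.isNilpotent
    have h := hL.le_ker rZ (K := K) inferInstance (by
      rintro _ ⟨f, hf, rfl⟩ z hz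
      exact Subtype.ext (hLfix f hf z hz))
    intro f hf z hz
    exact congrArg Subtype.val (DFunLike.congr_fun (h hf : rZ f = 1) (⟨z, hz⟩ : Z))
  -- the exponent of the center
  obtain ⟨v₀, hv₀⟩ : ∃ v : P, orderOf v = 2 := by
    obtain ⟨k, hk, hcard⟩ := hP.nontrivial_iff_card.1 hnt
    exact exists_prime_orderOf_dvd_card' 2 (hcard ▸ dvd_pow_self 2 (Nat.pos_iff_ne_zero.1 hk))
  have hv₀2 : v₀ * v₀ = 1 := by rw [← pow_two, ← hv₀, pow_orderOf_eq_one]
  have hv₀1 : v₀ ≠ 1 := fun h => by rw [h, orderOf_one] at hv₀; omega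
  have hex : ∃ k, ∀ z ∈ Z, z ^ 2 ^ k = 1 := by
    obtain ⟨n, hn⟩ := (IsPGroup.iff_card (p := 2)).1 hP
    exact ⟨n, fun z _ => by rw [← hn, pow_card_eq_one']⟩
  set e := Nat.find hex with hedef
  have he : ∀ z ∈ Z, z ^ 2 ^ e = 1 := Nat.find_spec hex
  obtain ⟨e', he'⟩ : ∃ e', e = e' + 1 := ⟨e - 1, by
    rcases Nat.eq_zero_or_pos e with h | h
    · exact absurd (by simpa [h] using he v₀ (hVZ v₀ hv₀2)) hv₀1
    · omega⟩
  set k := 2 ^ e' with hkdef
  have he2 : 2 ^ e = 2 * k := by rw [he', pow_succ, mul_comm]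
  -- squares
  have hsurj : ∀ v : P, v * v = 1 → ∃ z ∈ Z, z ^ k = v := by
    intro v hv
    rcases eq_or_ne v 1 with rfl | hv1
    · exact ⟨1, Z.one_mem, one_pow _⟩
    obtain ⟨z, hz, hzk⟩ : ∃ z ∈ Z, z ^ k ≠ 1 := by
      by_contra h
      push Not at h
      exact absurd (Nat.find_min' hex (m := e') h) (by omega)
    have hw : z ^ k * z ^ k = 1 := by rw [← pow_add, ← two_mul, ← he2, he z hz]
    obtain ⟨m, -, hm⟩ := htrans _ v hw hv hzk hv1
    exact ⟨m z, hfixZ m z hz, by rw [← map_pow, hm]⟩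
  have hsq : ∀ z ∈ Z, z ^ k = 1 → ∃ y ∈ Z, y * y = z := by
    letI : CommGroup Z := { Subgroup.toGroup Z with mul_comm := fun a b => Subtype.ext (hZc a a.2 b b.2) }
    let sq : Z →* Z := powMonoidHom 2
    let pw : Z →* Z := powMonoidHom k
    have hle : sq.range ≤ pw.ker := by
      rintro _ ⟨y, rfl⟩
      show (y ^ 2) ^ k = 1
      rw [← pow_mul, ← he2]
      exact Subtype.ext (by push_cast; exact he y y.2)
    have hrk : pw.range = sq.ker := by
      refine le_antisymm ?_ fun y hy => ?_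
      · rintro _ ⟨y, rfl⟩
        show (y ^ k) ^ 2 = 1
        rw [← pow_mul, mul_comm, ← he2]
        exact Subtype.ext (by push_cast; exact he y y.2)
      · have hy2 : (y : P) * y = 1 := by
          have h : y ^ 2 = 1 := hy
          rw [← pow_two]
          exact congrArg Subtype.val h
        obtain ⟨z, hz, hzy⟩ := hsurj y hy2
        exact ⟨⟨z, hz⟩, Subtype.ext hzy⟩
    have heq : sq.range = pw.ker := by
      refine Subgroup.eq_of_le_of_card_ge hle (le_of_eq ?_)
      have h1 : Nat.card pw.range * Nat.card pw.ker = Nat.card Z := by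
        rw [← Subgroup.index_ker, mul_comm, Subgroup.card_mul_index]
      have h2 : Nat.card sq.range * Nat.card sq.ker = Nat.card Z := by
        rw [← Subgroup.index_ker, mul_comm, Subgroup.card_mul_index]
      rw [hrk, ← h2, mul_comm (Nat.card sq.range)] at h1
      exact Nat.eq_of_mul_eq_mul_left Nat.card_pos h1
    intro z hz hzk
    obtain ⟨y, hy⟩ : (⟨z, hz⟩ : Z) ∈ sq.range := heq ▸ Subtype.ext hzk
    exact ⟨y, y.2, by rw [← pow_two]; exact congrArg Subtype.val hy⟩
  -- the quotient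
  let Z' : Subgroup C := Z.subgroupOf C
  haveI hZ'char : ∀ φ : MulAut P, ∀ c : C, c ∈ Z' → restrChar C φ c ∈ Z' := fun φ c hc => hfixZ φ c hc
  haveI : Z'.Normal := ⟨fun c hc g => by
    have hc' : (c : P) ∈ Z := hc
    show (g : P) * (c : P) * (g : P)⁻¹ ∈ Z
    rw [hZC (c : P) hc' g g.2, mul_inv_cancel_right]; exact hc'⟩
  have hc2 : ∀ c : C, (c : P) * c ∈ Z := fun c => by rw [← pow_two]; exact hCp c c.2
  have hcomm : ∀ a ∈ C, ∀ b : P, ⁅a, b⁆ ∈ Z := fun a ha b =>
    hCc (Subgroup.commutator_mem_commutator ha trivial)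
  have hA2 : ∀ a : C ⧸ Z', a * a = 1 := fun a => by
    induction a using QuotientGroup.induction_on with
    | H c => exact (QuotientGroup.eq_one_iff _).2 (hc2 c)
  letI : CommGroup (C ⧸ Z') :=
    { QuotientGroup.Quotient.group Z' with
      mul_comm := fun a b => by
        have hi : ∀ u : C ⧸ Z', u⁻¹ = u := fun u => inv_eq_of_mul_eq_one_left (hA2 u)
        calc a * b = (a * b)⁻¹ := (hi _).symm
          _ = b * a := by rw [mul_inv_rev, hi, hi] }
  -- the involutions
  let W : Subgroup P :=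
    { carrier := {v | v * v = 1}
      one_mem' := one_mul 1
      mul_mem' := fun {a b} ha hb => by
        show a * b * (a * b) = 1
        rw [mul_assoc, ← mul_assoc b a b, ← hcen a ha b, mul_assoc a b b, hb, mul_one, ha]
      inv_mem' := fun {a} ha => by
        show a⁻¹ * a⁻¹ = 1
        rw [← mul_inv_rev, ha, inv_one] }
  letI : CommGroup W := { Subgroup.toGroup W with mul_comm := fun a b => Subtype.ext (hcen a a.2 b) }
  haveI : Nontrivial W := ⟨⟨v₀, hv₀2⟩, 1, fun h => hv₀1 (congrArg Subtype.val h)⟩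
  have hQmem : ∀ c : C, (c : P) ^ 2 ^ e ∈ W := fun c => by
    show _ * _ = 1
    rw [← pow_add, ← two_mul, pow_mul, pow_two, he _ (hc2 c)]
  let Q : C ⧸ Z' → W := Quotient.lift (fun c : C => (⟨(c : P) ^ 2 ^ e, hQmem c⟩ : W)) fun a b hab => by
    have h : a⁻¹ * b ∈ Z' := QuotientGroup.leftRel_apply.1 hab
    have h' : ((a⁻¹ * b : C) : P) ∈ Z := h
    refine Subtype.ext ?_
    show (a : P) ^ 2 ^ e = (b : P) ^ 2 ^ e
    rw [show (b : P) = a * ((a⁻¹ * b : C) : P) by push_cast; group, Commute.mul_pow (show Commute (a : P) ((a⁻¹ * b : C) : P) from hZC _ h' a a.2),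
      he _ h', mul_one]
  have hpolar : ∀ x y : C, ((polar Q (QuotientGroup.mk x) (QuotientGroup.mk y) : W) : P) = ⁅(y : P), (x : P)⁆ ^ k := by
    intro x y
    set w := ⁅(y : P), (x : P)⁆ with hw
    have hwZ : w ∈ Z := hcomm y y.2 x
    have e1 : ((x : P) * y) * (x * y) = w * ((x : P) * x * ((y : P) * y)) := by
      have h1 : (y : P) * x = w * (x * y) := by rw [hw, commutatorElement_def]; group
      calc ((x : P) * y) * (x * y) = x * ((y : P) * x) * y := by group
        _ = ((x : P) * w) * x * y * y := by rw [h1]; group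
        _ = w * ((x : P) * x * ((y : P) * y)) := by rw [hZC w hwZ x x.2]; group
    have e2 : ((x : P) * y) ^ 2 ^ e = w ^ k * ((x : P) ^ 2 ^ e * (y : P) ^ 2 ^ e) := by
      rw [he2, pow_mul, pow_two, e1,
        Commute.mul_pow (show Commute w _ from hZc _ hwZ _ (mul_mem (hc2 x) (hc2 y))),
        Commute.mul_pow (show Commute ((x : P) * x) _ from hZc _ (hc2 x) _ (hc2 y)), pow_mul, pow_mul, pow_two, pow_two]
    show ((x * y : C) : P) ^ 2 ^ e * ((x : P) ^ 2 ^ e * (y : P) ^ 2 ^ e) = _
    push_cast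
    have hxy : ((x : P) ^ 2 ^ e * (y : P) ^ 2 ^ e) * ((x : P) ^ 2 ^ e * (y : P) ^ 2 ^ e) = 1 :=
      W.mul_mem (hQmem x) (hQmem y)
    rw [e2, mul_assoc, hxy, mul_one]
  have hQ : Aniso Q :=
    { two := hA2
      two' := fun v => Subtype.ext v.2
      bil := fun a b c => by
        induction a using QuotientGroup.induction_on with | H x => ?_
        induction b using QuotientGroup.induction_on with | H y => ?_
        induction c using QuotientGroup.induction_on with | H z => ?_
        refine Subtype.ext ?_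
        rw [← QuotientGroup.mk_mul, Subgroup.coe_mul, hpolar, hpolar, hpolar]
        have hmul : ⁅(z : P), ((x * y : C) : P)⁆ = ⁅(z : P), (x : P)⁆ * ⁅(z : P), (y : P)⁆ := by
          rw [show ⁅(z : P), (x : P)⁆ * ⁅(z : P), (y : P)⁆ = ⁅(z : P), (x : P)⁆ * ((x : P) * ⁅(z : P), (y : P)⁆ * (x : P)⁻¹) by
            rw [hZC _ (hcomm z z.2 y) x x.2, mul_inv_cancel_right]]
          push_cast
          simp only [commutatorElement_def]
          group
        rw [hmul, Commute.mul_pow (show Commute ⁅(z : P), (x : P)⁆ _ from hZc _ (hcomm z z.2 x) _ (hcomm z z.2 y))]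
      zero := fun a ha => by
        induction a using QuotientGroup.induction_on with | H c => ?_
        have h : (c : P) ^ 2 ^ e = 1 := congrArg Subtype.val ha
        rw [he2, pow_mul, pow_two] at h
        obtain ⟨y, hy, hyc⟩ := hsq _ (hc2 c) h
        refine (QuotientGroup.eq_one_iff _).2 ?_
        show (c : P) ∈ Z
        have h2 : ((c : P) * y⁻¹) * ((c : P) * y⁻¹) = 1 := by
          have hcy : (y⁻¹ : P) * c = c * y⁻¹ := (hZC _ (inv_mem hy) c c.2).symm
          rw [mul_assoc, ← mul_assoc y⁻¹, hcy, mul_assoc (c : P) y⁻¹ y⁻¹, ← mul_inv_rev, hyc]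
          group
        simpa using mul_mem (hVZ _ h2) hy }
  -- induced automorphisms
  let β : MulAut P →* MulAut (C ⧸ Z') :=
    { toFun := fun φ =>
        QuotientGroup.congr Z' Z' (restrChar C φ) (le_antisymm (by rintro _ ⟨c, hc, rfl⟩; exact hZ'char φ c hc)
          fun c hc => ⟨restrChar C φ⁻¹ c, hZ'char φ⁻¹ c hc, Subtype.ext (MulAut.apply_inv_self _ φ c)⟩)
      map_one' := MulEquiv.ext fun a => by induction a using QuotientGroup.induction_on with | H c => rfl
      map_mul' := fun _ _ => MulEquiv.ext fun a => by induction a using QuotientGroup.induction_on with | H c => rfl }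
  have hβQ : ∀ (φ : MulAut P) (a : C ⧸ Z'), ((Q (β φ a) : W) : P) = φ ((Q a : W) : P) := fun φ a => by
    induction a using QuotientGroup.induction_on with | H c => exact (map_pow φ _ _).symm
  have hiso : ∀ U : Subgroup (MulAut P), (∀ f ∈ U, ∀ v : P, v * v = 1 → f v = v) → U.map β ≤ isometries Q := by
    rintro U hU _ ⟨f, hf, rfl⟩ a
    exact Subtype.ext ((hβQ f a).trans (hU f hf _ (Q a).2))
  have hNodd : Odd (Nat.card (N.map β)) := by
    have hinn : (MulAut.conj : P →* MulAut P).range ≤ β.ker := by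
      rintro _ ⟨p, rfl⟩
      refine MonoidHom.mem_ker.2 (MulEquiv.ext fun a => ?_)
      induction a using QuotientGroup.induction_on with | H c => ?_
      refine QuotientGroup.eq.2 ?_
      show ((p * c * p⁻¹ : P))⁻¹ * c ∈ Z
      have h := hZn.conj_mem _ (inv_mem (hcomm _ c.2 p)) (c : P)⁻¹
      rw [commutatorElement_def] at h
      have e : (p * c * p⁻¹ : P)⁻¹ * c = (c : P)⁻¹ * ((c : P) * p * (c : P)⁻¹ * p⁻¹) * c := by group
      rw [e]
      have h' := inv_mem h
      simpa [mul_assoc] using h'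
    rw [← Subgroup.relIndex_ker]
    exact Nat.not_even_iff_odd.1 fun he => hInn (he.two_dvd.trans (Subgroup.relIndex_dvd_of_le_left N hinn))
  have hLn : L.map β ≤ Subgroup.normalizer ((N.map β : Subgroup _) : Set (MulAut (C ⧸ Z'))) :=
    (Subgroup.map_mono hLN).trans (Subgroup.le_normalizer_map β)
  have hcomm' : ∀ l ∈ L.map β, ∀ m ∈ M.map β, l * m = m * l :=
    hQ.commute_of_commutator_odd (hiso L hLfix) (hL.map β) (hiso N hNfix) hNodd hLn
      (by rw [← Subgroup.map_commutator]; exact Subgroup.map_mono hLM)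
  let π : ↥(M.map β) → MulAut W := fun m =>
    let φ := (Subgroup.mem_map.1 m.2).choose
    { toFun := fun v => ⟨φ v, by show φ v * φ v = 1; rw [← map_mul, v.2, map_one]⟩
      invFun := fun v => ⟨φ⁻¹ v, by show φ⁻¹ v * φ⁻¹ v = 1; rw [← map_mul, v.2, map_one]⟩
      left_inv := fun v => Subtype.ext (MulAut.inv_apply_self _ φ v)
      right_inv := fun v => Subtype.ext (MulAut.apply_inv_self _ φ v)
      map_mul' := fun _ _ => Subtype.ext (map_mul φ _ _) }
  have hπ : ∀ (m : ↥(M.map β)) a, Q ((m : MulAut (C ⧸ Z')) a) = π m (Q a) := fun m a => Subtype.ext (by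
    conv_lhs => rw [← (Subgroup.mem_map.1 m.2).choose_spec.2]
    exact hβQ _ a)
  have hAfix : L.map β = ⊥ := by
    by_cases hA : Subsingleton (C ⧸ Z')
    · exact (Subgroup.eq_bot_iff_forall _).2 fun f _ => MulEquiv.ext fun x => hA.elim _ _
    refine hQ.eq_bot_of_irr (hiso L hLfix) (hL.map β) hcomm' π hπ fun U hU => ?_
    by_contra hUne
    push Not at hUne
    obtain ⟨hUbot, hUtop⟩ := hUne
    obtain ⟨u, hu, hu1⟩ := (Subgroup.bot_or_exists_ne_one U).resolve_left hUbot
    refine hUtop (top_le_iff.1 fun w _ => ?_)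
    rcases eq_or_ne w 1 with rfl | hw1
    · exact U.one_mem
    have hu1' : (u : P) ≠ 1 := fun h => hu1 (Subtype.ext h)
    obtain ⟨m, hm, hmuw⟩ := htrans u w u.2 w.2 hu1' fun h => hw1 (Subtype.ext h)
    obtain ⟨a, ha⟩ : ∃ a, Q a = u := by
      by_contra hno
      push Not at hno
      obtain ⟨⟨c⟩, hc⟩ : ∃ a : C ⧸ Z', a ≠ 1 := by
        rw [not_subsingleton_iff_nontrivial] at hA
        exact exists_ne 1
      have hq1 : ((Q (Quot.mk _ c) : W) : P) ≠ 1 := fun h => hc (hQ.zero _ (Subtype.ext h))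
      obtain ⟨m', -, hm'⟩ := htrans _ u (Q (Quot.mk _ c)).2 u.2 hq1 hu1'
      exact hno (β m' (Quot.mk _ c)) (Subtype.ext ((hβQ _ _).trans hm'))
    have e : π ⟨β m, Subgroup.mem_map_of_mem β hm⟩ u = w := by
      rw [← ha, ← hπ]
      exact Subtype.ext ((hβQ m a).trans (by rw [ha]; exact hmuw))
    exact e ▸ hU _ ⟨_, rfl⟩ u hu
  -- stability
  have hA1 : ∀ f ∈ L, ∀ c : C, (c : P)⁻¹ * f c ∈ Z := fun f hf c => by
    have h1 : β f = 1 := by
      have h := Subgroup.mem_map_of_mem β hf
      rwa [hAfix, Subgroup.mem_bot] at h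
    have h2 := QuotientGroup.eq.1 (DFunLike.congr_fun h1 (QuotientGroup.mk c) :
      (QuotientGroup.mk (restrChar C f c) : C ⧸ Z') = QuotientGroup.mk c)
    have h3 := inv_mem h2
    rwa [mul_inv_rev, inv_inv] at h3
  haveI : Finite (MulAut C) := Finite.of_injective (fun f => (f : C → C)) DFunLike.coe_injective
  have hLC : L.map (restrChar C) = ⊥ := by
    refine (hL.map _).eq_bot_of_comm ?_
    rintro _ ⟨f, hf, rfl⟩ _ ⟨g, hg, rfl⟩
    refine MulEquiv.ext fun c => Subtype.ext ?_
    show f (g c) = g (f c)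
    have ef : f c = c * ((c : P)⁻¹ * f c) := (mul_inv_cancel_left _ _).symm
    have eg : g c = c * ((c : P)⁻¹ * g c) := (mul_inv_cancel_left _ _).symm
    rw [eg, map_mul, hLZ f hf _ (hA1 g hg c), ef, map_mul, hLZ g hg _ (hA1 f hf c)]
    conv_rhs => rw [eg]
    conv_lhs => rw [mul_assoc, hZc _ (hA1 f hf c) _ (hA1 g hg c)]
    group
  haveI hker : IsPGroup 2 (restrChar C).ker := isPGroup_two_of_odd _ fun a ha hodd =>
    CfsgLib.Critical.mulAut_eq_one hP C hCcent a (Nat.coprime_two_right.2 hodd)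
      fun x hx => congrArg Subtype.val (DFunLike.congr_fun (MonoidHom.mem_ker.1 ha) (⟨x, hx⟩ : C))
  haveI := hker.isNilpotent
  exact le_bot_iff.1 ((hL.le_ker (MonoidHom.id (MulAut P)) (K := (restrChar C).ker) inferInstance (by
    rw [Subgroup.map_id, ← Subgroup.map_eq_bot_iff]; exact hLC)).trans (by rw [MonoidHom.ker_id]))

end CfsgLib.OutSolv
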