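import Cfsg.Agent.Lib.OutSolv.Basic
import Cfsg.Agent.Lib.Fusion.RankTwoInversion
import Cfsg.Agent.Lib.OddOmega.Basic
import Cfsg.Agent.S0144

/-!
Perfect groups of automorphisms centralize a Sylow 2-subgroup with two generators, or with three
generators and an odd-order element of the normalizer acting nontrivially.
-/

set_option autoImplicit false
set_option linter.unusedSectionVars false
set_option linter.style.haveILetI false

namespace CfsgLib.OutSolv

open CfsgLib.Fusion

theorem solvable_of_card_dvd {X : Type*} [Group X] [Finite X] {p q A B : ℕ} (hp : p.Prime) (hq : q.Prime)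
    (h : Nat.card X ∣ p ^ A * q ^ B) : Group.IsSolvable X := by
  obtain ⟨u, v, hu, hv, e⟩ := exists_dvd_and_dvd_of_dvd_mul h
  obtain ⟨a, -, rfl⟩ := (Nat.dvd_prime_pow hp).1 hu
  obtain ⟨b, -, rfl⟩ := (Nat.dvd_prime_pow hq).1 hv
  exact Cfsg.Agent.S0144.result p q a b hp hq e

theorem card_mulAut_elementary {V : Type*} [CommGroup V] [Finite V] (h2 : ∀ v : V, v ^ 2 = 1) {d : ℕ}
    (hd : Nat.card V ≤ 2 ^ d) :
    ∃ r ≤ d, Nat.card (MulAut V) ∣ ∏ i : Fin r, (2 ^ r - 2 ^ (i : ℕ)) := by
  letI : Module (ZMod 2) (Additive V) := AddCommGroup.zmodModule fun x => congrArg Additive.ofMul (h2 x.toMul)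
  haveI : Module.Finite (ZMod 2) (Additive V) := Module.Finite.of_finite
  haveI : Fact (Nat.Prime 2) := ⟨Nat.prime_two⟩
  refine ⟨Module.finrank (ZMod 2) (Additive V), ?_, ?_⟩
  · have e := Module.natCard_eq_pow_finrank (K := ZMod 2) (V := Additive V)
    rw [Nat.card_congr Additive.toMul, Nat.card_zmod] at e
    exact (Nat.pow_le_pow_iff_right one_lt_two).1 (e ▸ hd)
  · let f : MulAut V →* (Additive V ≃ₗ[ZMod 2] Additive V) :=
      { toFun := fun α => { MulEquiv.toAdditive α with map_smul' := ZMod.map_smul (MulEquiv.toAdditive α) }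
        map_one' := rfl
        map_mul' := fun _ _ => rfl }
    have hf : Function.Injective f := fun a b e =>
      MulEquiv.ext fun v => congrArg Additive.toMul (LinearEquiv.congr_fun e (Additive.ofMul v))
    have e := (LinearMap.GeneralLinearGroup.generalLinearEquiv (ZMod 2) (Additive V)).symm.trans
      (Units.mapEquiv (LinearMap.toMatrixAlgEquiv (Module.finBasis (ZMod 2) (Additive V))).toMulEquiv)
    refine (Subgroup.card_dvd_of_injective f hf).trans (dvd_of_eq ?_)
    rw [Nat.card_congr e.toEquiv]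
    exact (Matrix.card_GL_field (𝔽 := ZMod 2) _).trans (by simp)

variable {P : Type*} [Group P] [Finite P]

theorem sq_quotient (hP : IsPGroup 2 P) (v : P ⧸ frattini P) : v ^ 2 = 1 := by
  haveI : Fact (Nat.Prime 2) := ⟨Nat.prime_two⟩
  obtain ⟨x, rfl⟩ := QuotientGroup.mk'_surjective (frattini P) v
  rw [← map_pow, QuotientGroup.mk'_apply, QuotientGroup.eq_one_iff]
  exact CfsgLib.OddOmega.pow_mem_frattini hP x

theorem comm_quotient (hP : IsPGroup 2 P) (u v : P ⧸ frattini P) : u * v = v * u := by
  have h : ∀ w : P ⧸ frattini P, w⁻¹ = w := fun w =>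
    inv_eq_of_mul_eq_one_right (by rw [← pow_two]; exact sq_quotient hP w)
  calc u * v = (u * v)⁻¹ := (h _).symm
    _ = v * u := by rw [mul_inv_rev, h, h]

theorem card_quotient_le (hP : IsPGroup 2 P) {d : ℕ} (g : Fin d → P) (hg : Subgroup.closure (Set.range g) = ⊤) :
    Nat.card (P ⧸ frattini P) ≤ 2 ^ d := by
  classical
  letI : CommGroup (P ⧸ frattini P) := { (inferInstance : Group (P ⧸ frattini P)) with mul_comm := comm_quotient hP }
  let F : Multiplicative (Fin d → ZMod 2) → P ⧸ frattini P := fun s => ∏ i, (g i : P ⧸ frattini P) ^ (s.toAdd i).val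
  let f : Multiplicative (Fin d → ZMod 2) →* P ⧸ frattini P := MonoidHom.mk' F fun s t => by
    simp only [F, ← Finset.prod_mul_distrib, ← pow_add]
    refine Finset.prod_congr rfl fun i _ => ?_
    rw [toAdd_mul, Pi.add_apply, ZMod.val_add]
    exact (pow_eq_pow_mod _ (sq_quotient hP _)).symm
  have hsurj : Function.Surjective f := by
    rw [← MonoidHom.range_eq_top, eq_top_iff, ← Subgroup.map_top_of_surjective _ (QuotientGroup.mk'_surjective (frattini P)),
      ← hg, MonoidHom.map_closure, Subgroup.closure_le]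
    rintro _ ⟨_, ⟨i, rfl⟩, rfl⟩
    refine ⟨Multiplicative.ofAdd (Pi.single i 1), ?_⟩
    show F _ = _
    simp only [F, toAdd_ofAdd]
    rw [Finset.prod_eq_single i (fun j _ hj => by simp [Pi.single_eq_of_ne hj]) (by simp)]
    simp [ZMod.val_one]
  refine (Nat.card_le_card_of_surjective f hsurj).trans (le_of_eq ?_)
  simp

theorem card_mulAut_quotient (hP : IsPGroup 2 P) {d : ℕ} (g : Fin d → P) (hg : Subgroup.closure (Set.range g) = ⊤) :
    ∃ r ≤ d, Nat.card (MulAut (P ⧸ frattini P)) ∣ ∏ i : Fin r, (2 ^ r - 2 ^ (i : ℕ)) := by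
  letI : CommGroup (P ⧸ frattini P) := { (inferInstance : Group (P ⧸ frattini P)) with mul_comm := comm_quotient hP }
  exact card_mulAut_elementary (sq_quotient hP) (card_quotient_le hP g hg)

variable {G : Type*} [Group G] [Finite G]

/-- A perfect group of automorphisms leaving the Sylow 2-subgroup invariant fixes it pointwise. -/
theorem perfect_fixes_sylow (S : Sylow 2 G)
    (h : (∃ a b : S, Subgroup.closure ({a, b} : Set S) = ⊤) ∨
      ((∃ a b c : S, Subgroup.closure ({a, b, c} : Set S) = ⊤) ∧
        ∃ g ∈ Subgroup.normalizer ((S : Subgroup G) : Set G),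
          Odd (orderOf g) ∧ g ∉ Subgroup.centralizer ((S : Subgroup G) : Set G)))
    (L : Subgroup (MulAut G)) (hL : IsPerf L)
    (hLS : ∀ φ ∈ L, ∀ s ∈ (S : Subgroup G), φ s ∈ (S : Subgroup G)) :
    ∀ φ ∈ L, ∀ s ∈ (S : Subgroup G), φ s = s := by
  haveI : Fact (Nat.Prime 2) := ⟨Nat.prime_two⟩
  set A : Subgroup G := (S : Subgroup G) with hA
  have hP : IsPGroup 2 A := S.isPGroup'
  haveI : Finite (MulAut A) := Finite.of_injective _ MulEquiv.toEquiv_injective
  haveI : Finite (MulAut (A ⧸ frattini A)) := Finite.of_injective _ MulEquiv.toEquiv_injective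
  let T : Subgroup (MulAut G) :=
    { carrier := {φ | ∀ s, φ s ∈ A ↔ s ∈ A}
      one_mem' := fun s => Iff.rfl
      mul_mem' := fun {a b} ha hb s => (ha (b s)).trans (hb s)
      inv_mem' := fun {a} ha s => by
        have := ha (a⁻¹ s)
        rw [MulAut.apply_inv_self] at this
        exact this.symm }
  have hLT : L ≤ T := fun φ hφ s => ⟨fun hs => by
    have := hLS φ⁻¹ (inv_mem hφ) _ hs
    rwa [MulAut.inv_apply_self] at this, fun hs => hLS φ hφ s hs⟩
  let r : T →* MulAut A :=
    { toFun := fun φ =>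
        { toFun := fun s => ⟨φ.1 s, (φ.2 s).2 s.2⟩
          invFun := fun s => ⟨φ.1⁻¹ s, ((T.inv_mem φ.2) s).2 s.2⟩
          left_inv := fun s => Subtype.ext (MulAut.inv_apply_self G φ.1 s)
          right_inv := fun s => Subtype.ext (MulAut.apply_inv_self G φ.1 s)
          map_mul' := fun s t => Subtype.ext (map_mul φ.1 (s : G) t) }
      map_one' := rfl
      map_mul' := fun _ _ => rfl }
  set π : T →* MulAut (A ⧸ frattini A) := (frattiniHom A).comp r with hπ
  set L' : Subgroup T := L.subgroupOf T with hL'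
  have hL'p : IsPerf L' := by
    refine Subgroup.map_injective T.subtype_injective ?_
    rw [Subgroup.map_commutator, hL', Subgroup.subgroupOf_map_subtype, inf_eq_left.2 hLT]
    exact hL
  suffices hk : L' ≤ π.ker by
    have hK : Group.IsSolvable (frattiniHom A).ker := by
      haveI : Group.IsNilpotent (frattiniHom A).ker := (isPGroup_ker_frattiniHom hP).isNilpotent
      infer_instance
    have hr : L' ≤ r.ker := hL'p.le_ker r hK (Subgroup.map_le_iff_le_comap.2 hk)
    intro φ hφ s hs
    have := MulEquiv.congr_fun (MonoidHom.mem_ker.1 (hr (show (⟨φ, hLT hφ⟩ : T) ∈ L' from hφ))) ⟨s, hs⟩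
    exact congrArg Subtype.val this
  rcases h with ⟨a, b, hab⟩ | ⟨⟨a, b, c, habc⟩, g, hgN, hgo, hgC⟩
  · obtain ⟨m, hm, hdvd⟩ := card_mulAut_quotient (P := A) hP ![a, b]
      (by rw [Matrix.range_cons_cons_empty]; exact hab)
    haveI : Group.IsSolvable (MulAut (A ⧸ frattini A)) := by
      refine solvable_of_card_dvd (A := 1) (B := 1) Nat.prime_two Nat.prime_three (hdvd.trans ?_)
      interval_cases m <;> decide
    exact hL'p.le_ker π (K := ⊤) inferInstance le_top
  · obtain ⟨m, hm, hdvd⟩ := card_mulAut_quotient (P := A) hP ![a, b, c]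
      (by rw [Matrix.range_cons, Matrix.range_cons_cons_empty, Set.singleton_union]; exact habc)
    have h168 : Nat.card (MulAut (A ⧸ frattini A)) ∣ 168 := by
      refine hdvd.trans ?_
      interval_cases m <;> decide
    let δ : Subgroup.normalizer (A : Set G) →* MulAut (A ⧸ frattini A) := (frattiniHom A).comp A.normalizerMonoidHom
    set D := δ.range with hD
    have hodd : Odd (Nat.card D) := by
      have hle : A.subgroupOf (Subgroup.normalizer (A : Set G)) ≤ δ.ker := by
        intro n hn
        rw [MonoidHom.mem_ker]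
        refine MulEquiv.ext fun v => ?_
        obtain ⟨x, rfl⟩ := QuotientGroup.mk'_surjective (frattini A) v
        show QuotientGroup.mk' (frattini A) ((⟨n, hn⟩ : A) * x * (⟨n, hn⟩ : A)⁻¹) = QuotientGroup.mk' (frattini A) x
        rw [map_mul, map_mul, map_inv, comm_quotient hP _ (QuotientGroup.mk' (frattini A) x), mul_inv_cancel_right]
      have h1 : Nat.card D ∣ A.index := by
        rw [hD, ← Subgroup.index_ker]
        exact (Subgroup.index_dvd_of_le hle).trans (Subgroup.relIndex_dvd_index_of_le Subgroup.le_normalizer)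
      rw [Nat.odd_iff]
      by_contra hc
      exact S.not_dvd_index ((Nat.dvd_of_mod_eq_zero (by omega)).trans h1)
    have hne : Nat.card D ≠ 1 := fun e => hgC <| by
      rw [Subgroup.card_eq_one, hD, MonoidHom.range_eq_bot_iff] at e
      let n₀ : Subgroup.normalizer (A : Set G) := ⟨g, hgN⟩
      have e1 : δ n₀ = 1 := by rw [e]; exact MonoidHom.one_apply n₀
      have h1 : A.normalizerMonoidHom n₀ ∈ (frattiniHom A).ker := MonoidHom.mem_ker.2 e1
      obtain ⟨k, hk⟩ := isPGroup_ker_frattiniHom hP ⟨_, h1⟩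
      have h2 : orderOf (A.normalizerMonoidHom n₀) ∣ 2 ^ k :=
        orderOf_dvd_of_pow_eq_one (congrArg Subtype.val hk)
      have h3 : orderOf (A.normalizerMonoidHom n₀) ∣ orderOf g :=
        (orderOf_map_dvd _ n₀).trans (dvd_of_eq (Subgroup.orderOf_coe n₀).symm)
      have h4 : A.normalizerMonoidHom n₀ = 1 :=
        orderOf_eq_one_iff.1 (Nat.eq_one_of_dvd_coprimes ((Nat.coprime_two_left.2 hgo).pow_left k) h2 h3)
      intro s hs
      have h5 := congrArg Subtype.val (MulEquiv.congr_fun h4 ⟨s, hs⟩)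
      exact (mul_inv_eq_iff_eq_mul.1 h5).symm
    have hnorm : L'.map π ≤ Subgroup.normalizer (D : Set (MulAut (A ⧸ frattini A))) := by
      rintro _ ⟨φ, -, rfl⟩
      rw [Subgroup.mem_normalizer_iff_map_conj_eq]
      refine Subgroup.eq_of_le_of_card_ge ?_ (by rw [Subgroup.card_map_of_injective (MulEquiv.injective _)])
      rintro _ ⟨_, ⟨n, rfl⟩, rfl⟩
      have hn : φ.1 n ∈ Subgroup.normalizer (A : Set G) := by
        rw [Subgroup.mem_normalizer_iff]
        intro x
        have e : φ.1 n * x * (φ.1 n)⁻¹ = φ.1 (n * φ.1⁻¹ x * (n : G)⁻¹) := by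
          rw [map_mul, map_mul, map_inv, MulAut.apply_inv_self]
        rw [e, φ.2, ← Subgroup.mem_normalizer_iff.1 n.2, (T.inv_mem φ.2) x]
      refine ⟨⟨φ.1 n, hn⟩, ?_⟩
      show frattiniHom A (A.normalizerMonoidHom ⟨φ.1 n, hn⟩) =
        frattiniHom A (r φ) * frattiniHom A (A.normalizerMonoidHom n) * (frattiniHom A (r φ))⁻¹
      rw [← map_mul, ← map_inv, ← map_mul]
      congr 1
      refine MulEquiv.ext fun s => Subtype.ext ?_
      show φ.1 n * s * (φ.1 n)⁻¹ = φ.1 (n * φ.1⁻¹ s * (n : G)⁻¹)
      rw [map_mul, map_mul, map_inv, MulAut.apply_inv_self]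
    refine hL'p.le_ker π ?_ hnorm
    set N := Subgroup.normalizer (D : Set (MulAut (A ⧸ frattini A))) with hN
    haveI : (D.subgroupOf N).Normal := Subgroup.normal_in_normalizer
    have h21 : Nat.card D ∣ 21 :=
      ((Nat.coprime_two_right.2 hodd).pow_right 3).dvd_of_dvd_mul_left
        ((Subgroup.card_subgroup_dvd_card D).trans h168)
    have hDs : Group.IsSolvable (D.subgroupOf N) := by
      refine solvable_of_card_dvd (A := 1) (B := 1) Nat.prime_three (by norm_num : Nat.Prime 7) ?_
      rw [Nat.card_congr (Subgroup.subgroupOfEquivOfLe Subgroup.le_normalizer).toEquiv]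
      exact h21
    have hmul : Nat.card (N ⧸ D.subgroupOf N) * Nat.card D ∣ 168 := by
      rw [← Nat.card_congr (Subgroup.subgroupOfEquivOfLe (H := D) (K := N) Subgroup.le_normalizer).toEquiv,
        ← Subgroup.card_eq_card_quotient_mul_card_subgroup]
      exact (Subgroup.card_subgroup_dvd_card N).trans h168
    have hQs : Group.IsSolvable (N ⧸ D.subgroupOf N) := by
      have hmem : Nat.card D ∈ Nat.divisors 21 := Nat.mem_divisors.2 ⟨h21, by norm_num⟩
      rw [show Nat.divisors 21 = {1, 3, 7, 21} by decide] at hmem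
      simp only [Finset.mem_insert, Finset.mem_singleton] at hmem
      rcases hmem with h | h | h | h <;> rw [h] at hmul
      · exact absurd h hne
      · exact solvable_of_card_dvd (A := 3) (B := 1) Nat.prime_two (by norm_num : Nat.Prime 7)
          (Nat.dvd_of_mul_dvd_mul_right (k := 3) (by norm_num) hmul)
      · exact solvable_of_card_dvd (A := 3) (B := 1) Nat.prime_two Nat.prime_three
          (Nat.dvd_of_mul_dvd_mul_right (k := 7) (by norm_num) hmul)
      · exact solvable_of_card_dvd (A := 3) (B := 0) Nat.prime_two Nat.prime_three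
          (Nat.dvd_of_mul_dvd_mul_right (k := 21) (by norm_num) hmul)
    exact Group.isSolvable_of_ker_le_range (D.subgroupOf N).subtype (QuotientGroup.mk' (D.subgroupOf N)) (by simp)

end CfsgLib.OutSolv
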